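import Mathlib

/-!
# Dimension of finitely generated algebras via algebraically independent elements
-/

set_option linter.style.haveILetI false

open MvPolynomial

namespace Groth.Agent.GrSegreLib

universe u v

/-- Integral injective maps preserve the Krull dimension. -/
theorem ringKrullDim_eq_of_integral_injective {P B : Type*} [CommRing P] [CommRing B]
    (g : P →+* B) (hg : Function.Injective g) (hi : g.IsIntegral) :
    ringKrullDim P = ringKrullDim B := by
  algebraize [g]
  haveI : Algebra.IsIntegral P B := ⟨hi⟩
  apply le_antisymm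
  · refine iSup_le fun c => ?_
    suffices h : ∀ n, ∀ c : LTSeries (PrimeSpectrum P), c.length = n →
        ∃ d : LTSeries (PrimeSpectrum B), d.length = n ∧
          Ideal.comap g d.last.asIdeal = c.last.asIdeal by
      obtain ⟨d, hd, -⟩ := h _ c rfl
      rw [← hd]
      exact le_iSup (fun e : LTSeries (PrimeSpectrum B) => (e.length : WithBot ℕ∞)) d
    intro n
    induction n with
    | zero =>
      intro c hc
      obtain ⟨Q, -, hQ, hQc⟩ := Ideal.exists_ideal_over_prime_of_isIntegral (S := B)
        c.last.asIdeal ⊥ (by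
          rw [show Ideal.comap (algebraMap P B) ⊥ = RingHom.ker g from rfl,
            (RingHom.injective_iff_ker_eq_bot g).mp hg]
          exact bot_le)
      exact ⟨RelSeries.singleton _ ⟨Q, hQ⟩, rfl, hQc⟩
    | succ n ih =>
      intro c hc
      obtain ⟨d, hd, hdl⟩ := ih c.eraseLast (by simp [hc])
      have hlt : c.eraseLast.last < c.last :=
        c.eraseLast_last_rel_last (by omega)
      obtain ⟨Q, hQle, hQ, hQc⟩ := Ideal.exists_ideal_over_prime_of_isIntegral (S := B)
        c.last.asIdeal d.last.asIdeal (by
          show Ideal.comap g d.last.asIdeal ≤ _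
          rw [hdl]; exact hlt.le)
      have hlt' : d.last < ⟨Q, hQ⟩ := by
        refine lt_of_le_of_ne hQle fun h => hlt.ne ?_
        apply PrimeSpectrum.ext
        rw [← hdl, h]
        exact hQc
      refine ⟨d.snoc ⟨Q, hQ⟩ hlt', by simp [hd], ?_⟩
      rw [RelSeries.last_snoc]; exact hQc
  · refine Order.krullDim_le_of_strictMono (PrimeSpectrum.comap g) fun p q hpq => ?_
    exact Ideal.IsIntegral.comap_lt_comap (R := P) hpq

variable {k : Type u} [Field k]

/-- A finitely generated algebra of dimension `d` contains `d` algebraically independent elements. -/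
theorem exists_algIndep {A : Type v} [CommRing A] [Algebra k A] [Algebra.FiniteType k A]
    {d : ℕ} (hd : ringKrullDim A = d) :
    ∃ z : Fin d → A, AlgebraicIndependent k z := by
  haveI : Nontrivial A := by
    rcases subsingleton_or_nontrivial A with h | h
    · rw [ringKrullDim_eq_bot_of_subsingleton] at hd
      exact absurd hd (by simp)
    · exact h
  obtain ⟨s, g, hinj, hint⟩ := exists_integral_inj_algHom_of_fg k A
  have h := ringKrullDim_eq_of_integral_injective g.toRingHom hinj hint
  rw [hd, MvPolynomial.ringKrullDim_of_isNoetherianRing, ringKrullDim_eq_zero_of_field] at h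
  obtain rfl : s = d := by
    have : (s : WithBot ℕ∞) = d := by simpa using h
    exact_mod_cast this
  refine ⟨fun i => g (X i), ?_⟩
  rw [algebraicIndependent_iff_injective_aeval]
  convert hinj using 2
  exact MvPolynomial.algHom_ext fun i => by simp

/-- A domain quotient keeping given algebraically independent elements independent. -/
theorem exists_prime_algIndep {A : Type v} [CommRing A] [Algebra k A] {n : ℕ} {z : Fin n → A}
    (hz : AlgebraicIndependent k z) :
    ∃ p : Ideal A, p.IsPrime ∧ AlgebraicIndependent k (fun i => Ideal.Quotient.mkₐ k p (z i)) := by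
  let f : MvPolynomial (Fin n) k →ₐ[k] A := aeval z
  have hf : Function.Injective f := algebraicIndependent_iff_injective_aeval.mp hz
  have hmin : (⊥ : Ideal (MvPolynomial (Fin n) k)) ∈ minimalPrimes (MvPolynomial (Fin n) k) := by
    rw [IsDomain.minimalPrimes_eq_singleton_bot]; rfl
  obtain ⟨p, hp, hpc⟩ := Ideal.exists_comap_eq_of_mem_minimalPrimes_of_injective
    (f := f.toRingHom) hf ⊥ hmin
  refine ⟨p, hp, ?_⟩
  rw [algebraicIndependent_iff_injective_aeval, injective_iff_map_eq_zero]
  intro F hF
  have h1 : (aeval fun i => Ideal.Quotient.mkₐ k p (z i)) F = Ideal.Quotient.mkₐ k p (f F) := by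
    rw [← AlgHom.comp_apply, comp_aeval]
  rw [h1, Ideal.Quotient.mkₐ_eq_mk, Ideal.Quotient.eq_zero_iff_mem] at hF
  have h2 : F ∈ Ideal.comap f.toRingHom p := hF
  rw [hpc] at h2
  exact h2

/-- The number of algebraically independent elements is at most the dimension. -/
theorem le_ringKrullDim_of_algIndep {A : Type v} [CommRing A] [Algebra k A]
    [Algebra.FiniteType k A] {n : ℕ} {z : Fin n → A} (hz : AlgebraicIndependent k z) :
    (n : WithBot ℕ∞) ≤ ringKrullDim A := by
  obtain ⟨p, hp, hzp⟩ := exists_prime_algIndep hz
  haveI := hp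
  refine le_trans ?_ (ringKrullDim_quotient_le p)
  obtain ⟨s, g, hinj, hint⟩ := exists_integral_inj_algHom_of_fg k (A ⧸ p)
  rw [← ringKrullDim_eq_of_integral_injective g.toRingHom hinj hint,
    MvPolynomial.ringKrullDim_of_isNoetherianRing, ringKrullDim_eq_zero_of_field]
  suffices n ≤ s by simpa using this
  have halg : Algebra.IsAlgebraic (Algebra.adjoin k (Set.range fun i => g (X i))) (A ⧸ p) := by
    refine ⟨fun a => IsIntegral.isAlgebraic ?_⟩
    have hrange : Algebra.adjoin k (Set.range fun i => g (X i)) = g.range := by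
      rw [Algebra.adjoin_range_eq_range_aeval]
      congr 1
      exact (MvPolynomial.algHom_ext fun i => by simp).symm
    rw [hrange]
    obtain ⟨P, hP, hPa⟩ := hint a
    refine ⟨P.map g.rangeRestrict.toRingHom, hP.map _, ?_⟩
    rw [Polynomial.eval₂_map]
    exact hPa
  have h1 := Algebra.IsAlgebraic.trdeg_le_cardinalMk k (Set.range fun i => g (X i))
  have h2 := hzp.lift_cardinalMk_le_trdeg
  have h3 : Cardinal.mk (Set.range fun i => g (X i)) ≤ (s : Cardinal) := by
    have := Cardinal.mk_range_le_lift (f := fun i : Fin s => g (X i))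
    simpa using this
  have h4 : Cardinal.lift.{0} (Algebra.trdeg k (A ⧸ p)) ≤ Cardinal.lift.{0} (s : Cardinal.{v}) :=
    Cardinal.lift_le.mpr (h1.trans h3)
  have h5 := h2.trans h4
  simpa using h5

/-- In an algebra generated by `g`, as many of the generators as the dimension are independent. -/
theorem exists_algIndep_generators {A : Type v} [CommRing A] [Algebra k A]
    [Algebra.FiniteType k A] {G : Set A} (hG : Algebra.adjoin k G = ⊤) {n : ℕ} {z : Fin n → A}
    (hz : AlgebraicIndependent k z) :
    ∃ u : Fin n → A, (∀ i, u i ∈ G) ∧ AlgebraicIndependent k u := by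
  obtain ⟨p, hp, hzp⟩ := exists_prime_algIndep hz
  haveI := hp
  let π := Ideal.Quotient.mkₐ k p
  have hgen : Algebra.adjoin k (π '' G) = ⊤ := by
    rw [Algebra.adjoin_image, hG, Algebra.map_top, AlgHom.range_eq_top]
    exact Ideal.Quotient.mkₐ_surjective k p
  haveI : Algebra.IsAlgebraic (Algebra.adjoin k (π '' G)) (A ⧸ p) := by
    rw [hgen]
    exact ⟨fun a => isAlgebraic_algebraMap (⟨a, Algebra.mem_top⟩ : (⊤ : Subalgebra k (A ⧸ p)))⟩
  haveI : FaithfulSMul k (A ⧸ p) :=
    (faithfulSMul_iff_algebraMap_injective k (A ⧸ p)).mpr (algebraMap k (A ⧸ p)).injective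
  obtain ⟨t, htG, htb⟩ := exists_isTranscendenceBasis_subset (R := k) (π '' G)
  have hn : Cardinal.lift.{v} (Cardinal.mk (Fin n)) ≤ Cardinal.lift.{0} (Cardinal.mk t) := by
    rw [htb.cardinalMk_eq_trdeg]
    exact hzp.lift_cardinalMk_le_trdeg
  obtain ⟨ι⟩ := Cardinal.lift_mk_le'.mp hn
  have hu := htb.1.comp ι ι.injective
  choose u huG hu' using fun i => htG (ι i).2
  refine ⟨u, huG, AlgebraicIndependent.of_comp π ?_⟩
  have h : (π ∘ u) = ((Subtype.val : t → A ⧸ p) ∘ ι) := funext hu'
  rw [h]
  exact hu

/-- Monomials with linearly independent exponents are algebraically independent. -/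
theorem algIndep_monomial {σ τ : Type*} (L : (σ →₀ ℕ) →+ (τ →₀ ℕ)) (hL : Function.Injective L) :
    AlgebraicIndependent k (fun i : σ => monomial (L (Finsupp.single i 1)) (1 : k)) := by
  rw [algebraicIndependent_iff_injective_aeval]
  have h : (aeval fun i : σ => monomial (L (Finsupp.single i 1)) (1 : k)) =
      (AddMonoidAlgebra.mapDomainAlgHom k k L : MvPolynomial σ k →ₐ[k] MvPolynomial τ k) := by
    refine MvPolynomial.algHom_ext fun i => ?_
    rw [aeval_X]
    exact (AddMonoidAlgebra.mapDomain_single).symm
  rw [h]
  exact AddMonoidAlgebra.mapDomain_injective hL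

/-- Positive powers of algebraically independent elements are algebraically independent. -/
theorem algIndep_pow {A : Type v} [CommRing A] [Algebra k A] {ι : Type*} {u : ι → A}
    (hu : AlgebraicIndependent k u) {e : ι → ℕ} (he : ∀ i, 0 < e i) :
    AlgebraicIndependent k (fun i => u i ^ e i) := by
  classical
  let L : (ι →₀ ℕ) →+ (ι →₀ ℕ) :=
    (Finsupp.linearCombination ℕ fun i => Finsupp.single i (e i)).toAddMonoidHom
  have hLa : ∀ d j, L d j = d j * e j := by
    intro d j
    simp [L, Finsupp.linearCombination_apply, Finsupp.sum, Finsupp.finsetSum_apply,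
      Finsupp.single_apply]
    intro h; simp [h]
  have hL : Function.Injective L := by
    intro a b hab
    ext i
    have := DFunLike.congr_fun hab i
    rw [hLa, hLa] at this
    exact Nat.eq_of_mul_eq_mul_right (he i) this
  have h := algIndep_monomial (k := k) L hL
  have h2 := h.map' (f := aeval u) (algebraicIndependent_iff_injective_aeval.mp hu)
  convert h2 using 1
  funext i
  have hi : L (Finsupp.single i 1) = Finsupp.single i (e i) := by
    ext j
    rw [hLa]
    by_cases hj : i = j
    · subst hj; simp
    · simp [hj]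
  simp [hi, aeval_monomial]

end Groth.Agent.GrSegreLib
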