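import Groth.Agent.GrSegreLib.Finite
import Groth.Agent.GrSegreLib.Dim

/-!
# The upper bound for dimensions of Segre products
-/

open DirectSum TensorProduct

set_option linter.style.haveILetI false
set_option linter.unusedSectionVars false

namespace Groth.Agent.GrSegreLib

universe u

variable {k : Type u} [Field k] {R S : Type u} [CommRing R] [CommRing S] [Algebra k R] [Algebra k S]
  (𝒜 : ℤ → Submodule k R) [GradedAlgebra 𝒜] (ℬ : ℤ → Submodule k S) [GradedAlgebra ℬ]

section GrHom

variable {D : Type u} [CommRing D] [Algebra k D] (f : R →ₐ[k] D) (e : ℤ →+ ℤ)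

/-- The map on one piece. -/
noncomputable def grHomPiece (i : ℤ) : 𝒜 i →ₗ[k] AddMonoidAlgebra D ℤ where
  toFun x := AddMonoidAlgebra.single (e i) (f x)
  map_add' x y := by simp [map_add]
  map_smul' c x := by simp only [Submodule.coe_smul, map_smul, RingHom.id_apply,
    AddMonoidAlgebra.smul_single]

theorem grHomPiece_one : grHomPiece 𝒜 f e 0 (GradedMonoid.GOne.one (A := fun i => 𝒜 i)) = 1 := by
  show AddMonoidAlgebra.single (e 0) (f (1 : R)) = 1
  rw [map_zero, map_one]; rfl

theorem grHomPiece_mul {i j : ℤ} (ai : 𝒜 i) (aj : 𝒜 j) :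
    grHomPiece 𝒜 f e (i + j) (GradedMonoid.GMul.mul (A := fun i => 𝒜 i) ai aj) =
      grHomPiece 𝒜 f e i ai * grHomPiece 𝒜 f e j aj := by
  show AddMonoidAlgebra.single (e (i + j)) (f ((ai : R) * aj)) =
    AddMonoidAlgebra.single (e i) (f ai) * AddMonoidAlgebra.single (e j) (f aj)
  rw [AddMonoidAlgebra.single_mul_single, map_add, map_mul]

/-- Record the degree of each homogeneous component. -/
noncomputable def grHom : R →ₐ[k] AddMonoidAlgebra D ℤ :=
  (DirectSum.toAlgebra k (fun i => 𝒜 i) (grHomPiece 𝒜 f e) (grHomPiece_one 𝒜 f e)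
    (fun ai aj => grHomPiece_mul 𝒜 f e ai aj)).comp (decomposeAlgEquiv 𝒜).toAlgHom

theorem grHom_of_mem {i : ℤ} {x : R} (hx : x ∈ 𝒜 i) :
    grHom 𝒜 f e x = AddMonoidAlgebra.single (e i) (f x) := by
  show (DirectSum.toAlgebra k (fun i => 𝒜 i) (grHomPiece 𝒜 f e) (grHomPiece_one 𝒜 f e)
    (fun ai aj => grHomPiece_mul 𝒜 f e ai aj)) (decomposeAlgEquiv 𝒜 x) = _
  rw [decomposeAlgEquiv_apply, decompose_of_mem 𝒜 hx]
  exact DirectSum.toSemiring_of (fun i => (grHomPiece 𝒜 f e i).toAddMonoidHom)
    (grHomPiece_one 𝒜 f e) (fun ai aj => grHomPiece_mul 𝒜 f e ai aj) i ⟨x, hx⟩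

theorem grHom_eq_zero (I : Ideal R) (hI : ∀ r ∈ I, ∀ i, (decompose 𝒜 r i : R) ∈ I)
    (hf : ∀ r ∈ I, f r = 0) : ∀ r ∈ I, grHom 𝒜 f e r = 0 := by
  classical
  intro r hr
  rw [← sum_support_decompose 𝒜 r, map_sum]
  refine Finset.sum_eq_zero fun i _ => ?_
  rw [grHom_of_mem 𝒜 f e (decompose 𝒜 r i).2, hf _ (hI r hr i), AddMonoidAlgebra.single_zero]

end GrHom

/-- The dimension of a tensor product over a field is at most the sum of the dimensions. -/
theorem ringKrullDim_tensor_le {A B : Type u} [CommRing A] [CommRing B] [Algebra k A] [Algebra k B]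
    [Algebra.FiniteType k A] [Algebra.FiniteType k B] {r s : ℕ}
    (hr : ringKrullDim A = r) (hs : ringKrullDim B = s) :
    ringKrullDim (A ⊗[k] B) = ((r + s : ℕ) : WithBot ℕ∞) := by
  haveI : Nontrivial A := by
    rcases subsingleton_or_nontrivial A with h | h
    · rw [ringKrullDim_eq_bot_of_subsingleton] at hr
      exact absurd hr (by simp)
    · exact h
  haveI : Nontrivial B := by
    rcases subsingleton_or_nontrivial B with h | h
    · rw [ringKrullDim_eq_bot_of_subsingleton] at hs
      exact absurd hs (by simp)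
    · exact h
  obtain ⟨m, f, hf, hfi⟩ := exists_integral_inj_algHom_of_fg k A
  obtain ⟨n, g, hg, hgi⟩ := exists_integral_inj_algHom_of_fg k B
  have hdf := ringKrullDim_eq_of_integral_injective f.toRingHom hf hfi
  rw [hr, MvPolynomial.ringKrullDim_of_isNoetherianRing, ringKrullDim_eq_zero_of_field] at hdf
  obtain rfl : m = r := by
    have : (m : WithBot ℕ∞) = r := by simpa using hdf
    exact_mod_cast this
  have hdg := ringKrullDim_eq_of_integral_injective g.toRingHom hg hgi
  rw [hs, MvPolynomial.ringKrullDim_of_isNoetherianRing, ringKrullDim_eq_zero_of_field] at hdg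
  obtain rfl : n = s := by
    have : (n : WithBot ℕ∞) = s := by simpa using hdg
    exact_mod_cast this
  let G := Algebra.TensorProduct.map f g
  have hG : Function.Injective G := by
    have := TensorProduct.map_injective_of_flat_flat f.toLinearMap g.toLinearMap hf hg
    exact this
  have hA : ∀ a : A, RingHom.IsIntegralElem G.toRingHom (a ⊗ₜ[k] (1 : B)) := by
    intro a
    obtain ⟨P, hP, hPa⟩ := hfi a
    refine ⟨P.map (Algebra.TensorProduct.includeLeft (R := k) (S := k)
      (A := MvPolynomial (Fin m) k) (B := MvPolynomial (Fin n) k)).toRingHom, hP.map _, ?_⟩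
    rw [Polynomial.eval₂_map]
    have hcomp : G.toRingHom.comp (Algebra.TensorProduct.includeLeft (R := k) (S := k)
        (A := MvPolynomial (Fin m) k) (B := MvPolynomial (Fin n) k)).toRingHom =
        (Algebra.TensorProduct.includeLeft (R := k) (S := k) (A := A) (B := B)).toRingHom.comp
          f.toRingHom := by
      refine RingHom.ext fun x => ?_
      simp [G]
    rw [hcomp]
    have := Polynomial.hom_eval₂ P f.toRingHom
      (Algebra.TensorProduct.includeLeft (R := k) (S := k) (A := A) (B := B)).toRingHom a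
    exact this.symm.trans (by rw [hPa]; simp)
  have hB : ∀ b : B, RingHom.IsIntegralElem G.toRingHom ((1 : A) ⊗ₜ[k] b) := by
    intro b
    obtain ⟨P, hP, hPb⟩ := hgi b
    refine ⟨P.map (Algebra.TensorProduct.includeRight (R := k)
      (A := MvPolynomial (Fin m) k) (B := MvPolynomial (Fin n) k)).toRingHom, hP.map _, ?_⟩
    rw [Polynomial.eval₂_map]
    have hcomp : G.toRingHom.comp (Algebra.TensorProduct.includeRight (R := k)
        (A := MvPolynomial (Fin m) k) (B := MvPolynomial (Fin n) k)).toRingHom =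
        (Algebra.TensorProduct.includeRight (R := k) (A := A) (B := B)).toRingHom.comp
          g.toRingHom := by
      refine RingHom.ext fun x => ?_
      simp [G]
    rw [hcomp]
    have := Polynomial.hom_eval₂ P g.toRingHom
      (Algebra.TensorProduct.includeRight (R := k) (A := A) (B := B)).toRingHom b
    exact this.symm.trans (by rw [hPb]; simp)
  have hGi : G.toRingHom.IsIntegral := by
    intro x
    induction x using TensorProduct.induction_on with
    | zero => exact RingHom.isIntegralElem_zero _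
    | tmul a b =>
      have h := RingHom.IsIntegralElem.mul _ (hA a) (hB b)
      rwa [Algebra.TensorProduct.tmul_mul_tmul, mul_one, one_mul] at h
    | add x y hx hy => exact RingHom.IsIntegralElem.add _ hx hy
  rw [← ringKrullDim_eq_of_integral_injective G.toRingHom hG hGi,
    ringKrullDim_eq_of_ringEquiv
      (MvPolynomial.tensorEquivSum k (Fin m) (Fin n) k).toRingEquiv,
    MvPolynomial.ringKrullDim_of_isNoetherianRing, ringKrullDim_eq_zero_of_field]
  simp [Nat.card_sum]

variable {T : Type u} [CommRing T] [Algebra k T] (𝒯 : ℤ → Submodule k T) [GradedAlgebra 𝒯]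
  (ψ : T →ₐ[k] R ⊗[k] S)

/-- The projection of `R ⊗ S` onto the tensor product of the quotients. -/
noncomputable abbrev proj (I : Ideal R) (J : Ideal S) : R ⊗[k] S →ₐ[k] (R ⧸ I) ⊗[k] (S ⧸ J) :=
  Algebra.TensorProduct.map (Ideal.Quotient.mkₐ k I) (Ideal.Quotient.mkₐ k J)

/-- Fewer than `r + s` elements of a Segre product are algebraically independent. -/
theorem upper_bound (hposR : ∀ n : ℤ, n < 0 → 𝒜 n = ⊥)
    (h0R : 𝒜 0 = Submodule.span k {(1 : R)}) (h0S : ℬ 0 = Submodule.span k {(1 : S)})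
    [Algebra.FiniteType k R] [Algebra.FiniteType k S]
    (I : Ideal R) (hI : ∀ r ∈ I, ∀ i, (decompose 𝒜 r i : R) ∈ I)
    (J : Ideal S) (hJ : ∀ x ∈ J, ∀ i, (decompose ℬ x i : S) ∈ J)
    (hdegT : ∀ n, (𝒯 n).map ψ.toLinearMap = GrSeg.segrePiece k 𝒜 ℬ n)
    {r s : ℕ} (hr : ringKrullDim (R ⧸ I) = r) (hs : ringKrullDim (S ⧸ J) = s)
    {n : ℕ} {z : Fin n → T} (hz : AlgebraicIndependent k (fun i => proj I J (ψ (z i)))) :
    n ≤ r + s - 1 := by
  classical
  rcases Nat.eq_zero_or_pos n with hn0 | hn0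
  · omega
  haveI : Algebra.FiniteType k (R ⧸ I) :=
    Algebra.FiniteType.of_surjective (Ideal.Quotient.mkₐ k I) (Ideal.Quotient.mkₐ_surjective k I)
  haveI : Algebra.FiniteType k (S ⧸ J) :=
    Algebra.FiniteType.of_surjective (Ideal.Quotient.mkₐ k J) (Ideal.Quotient.mkₐ_surjective k J)
  obtain ⟨Q, hQ, hzQ⟩ := exists_prime_algIndep hz
  haveI := hQ
  let D := ((R ⧸ I) ⊗[k] (S ⧸ J)) ⧸ Q
  let q : (R ⧸ I) ⊗[k] (S ⧸ J) →ₐ[k] D := Ideal.Quotient.mkₐ k Q
  let fR : R →ₐ[k] D :=
    (q.comp Algebra.TensorProduct.includeLeft).comp (Ideal.Quotient.mkₐ k I)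
  let fS : S →ₐ[k] D :=
    (q.comp Algebra.TensorProduct.includeRight).comp (Ideal.Quotient.mkₐ k J)
  have hfR : ∀ x ∈ I, fR x = 0 := fun x hx => by
    simp [fR, Ideal.Quotient.eq_zero_iff_mem.mpr hx]
  have hfS : ∀ x ∈ J, fS x = 0 := fun x hx => by
    simp [fS, Ideal.Quotient.eq_zero_iff_mem.mpr hx]
  let eR : ℤ →+ ℤ := AddMonoidHom.id ℤ
  let eS : ℤ →+ ℤ := -AddMonoidHom.id ℤ
  let Φ : (R ⧸ I) ⊗[k] (S ⧸ J) →ₐ[k] AddMonoidAlgebra D ℤ :=
    Algebra.TensorProduct.lift
      (Ideal.Quotient.liftₐ I (grHom 𝒜 fR eR) (grHom_eq_zero 𝒜 fR eR I hI hfR))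
      (Ideal.Quotient.liftₐ J (grHom ℬ fS eS) (grHom_eq_zero ℬ fS eS J hJ hfS))
      (fun _ _ => Commute.all _ _)
  have hpure : ∀ a b, fR a * fS b = q (proj I J (a ⊗ₜ[k] b)) := fun a b => by
    simp only [fR, fS, AlgHom.comp_apply, Algebra.TensorProduct.includeLeft_apply,
      Algebra.TensorProduct.includeRight_apply, ← map_mul, Algebra.TensorProduct.tmul_mul_tmul,
      mul_one, one_mul, Algebra.TensorProduct.map_tmul]
  let C : D →ₐ[k] AddMonoidAlgebra D ℤ :=
    { AddMonoidAlgebra.singleZeroRingHom with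
      commutes' := fun c => rfl }
  have hC : ∀ x, C x = AddMonoidAlgebra.single 0 x := fun x => rfl
  have hpiece : ∀ m (x : R ⊗[k] S), x ∈ GrSeg.segrePiece k 𝒜 ℬ m →
      Φ (proj I J x) = C (q (proj I J x)) ∧
        ((∀ i, 0 < i → ∀ a ∈ 𝒜 i, fR a = 0) →
          q (proj I J x) ∈ (Algebra.ofId k D).range) := by
    intro m x hx
    induction hx using Submodule.span_induction with
    | mem y hy =>
      obtain ⟨a, ha, b, hb, rfl⟩ := hy
      constructor
      · have h1 : Φ (proj I J (a ⊗ₜ[k] b)) = grHom 𝒜 fR eR a * grHom ℬ fS eS b := by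
          simp [Φ]
        rw [h1, grHom_of_mem 𝒜 fR eR ha, grHom_of_mem ℬ fS eS hb,
          AddMonoidAlgebra.single_mul_single, hpure, hC]
        simp [eR, eS]
      · intro hdeg
        rw [← hpure]
        rcases lt_trichotomy m 0 with hm | hm | hm
        · rw [hposR m hm, Submodule.mem_bot] at ha
          rw [ha, map_zero, zero_mul]
          exact Subalgebra.zero_mem _
        · subst hm
          rw [h0R, Submodule.mem_span_singleton] at ha
          rw [h0S, Submodule.mem_span_singleton] at hb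
          obtain ⟨c, rfl⟩ := ha
          obtain ⟨c', rfl⟩ := hb
          refine ⟨c * c', ?_⟩
          simp [Algebra.algebraMap_eq_smul_one, smul_smul, mul_comm]
        · rw [hdeg m hm a ha, zero_mul]
          exact Subalgebra.zero_mem _
    | zero => simp [Subalgebra.zero_mem]
    | add a b _ _ ha hb =>
      refine ⟨by simp only [map_add, ha.1, hb.1], fun h => ?_⟩
      simp only [map_add]
      exact Subalgebra.add_mem _ (ha.2 h) (hb.2 h)
    | smul c a _ ha =>
      refine ⟨by simp only [map_smul, ha.1], fun h => ?_⟩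
      simp only [map_smul]
      exact Subalgebra.smul_mem _ (ha.2 h) c
  have hT : ∀ t : T, Φ (proj I J (ψ t)) = C (q (proj I J (ψ t))) ∧
      ((∀ i, 0 < i → ∀ a ∈ 𝒜 i, fR a = 0) →
        q (proj I J (ψ t)) ∈ (Algebra.ofId k D).range) := by
    intro t
    induction t using Decomposition.inductionOn 𝒯 with
    | zero => simp [Subalgebra.zero_mem]
    | @homogeneous m y =>
      refine hpiece m _ ?_
      rw [← hdegT]
      exact ⟨y, y.2, rfl⟩
    | add a b ha hb =>
      refine ⟨by simp only [map_add, ha.1, hb.1], fun h => ?_⟩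
      simp only [map_add]
      exact Subalgebra.add_mem _ (ha.2 h) (hb.2 h)
  by_cases hdeg : ∀ i, 0 < i → ∀ a ∈ 𝒜 i, fR a = 0
  · obtain ⟨c, hc⟩ := (hT (z ⟨0, hn0⟩)).2 hdeg
    exact absurd (hc ▸ isAlgebraic_algebraMap (R := k) (A := D) c) (hzQ.transcendental ⟨0, hn0⟩)
  push Not at hdeg
  obtain ⟨i₀, hi₀, a₀, ha₀, hc⟩ := hdeg
  let x₀ : (R ⧸ I) ⊗[k] (S ⧸ J) := Ideal.Quotient.mkₐ k I a₀ ⊗ₜ[k] 1
  have hx₀ : Φ x₀ = AddMonoidAlgebra.single i₀ (fR a₀) := by
    have h1 : Φ x₀ = grHom 𝒜 fR eR a₀ := by simp [Φ, x₀]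
    rw [h1, grHom_of_mem 𝒜 fR eR ha₀]
    rfl
  let w : Option (Fin n) → (R ⧸ I) ⊗[k] (S ⧸ J) :=
    fun o => o.elim x₀ fun i => proj I J (ψ (z i))
  have hCinj : Function.Injective C := fun x y h => by
    rw [hC, hC] at h
    exact Finsupp.single_injective 0 (congrArg AddMonoidAlgebra.coeff h)
  have hgz : AlgebraicIndependent k (fun i => C (q (proj I J (ψ (z i))))) :=
    hzQ.map' (f := C) hCinj
  have hw : AlgebraicIndependent k w := by
    refine AlgebraicIndependent.of_comp Φ ?_
    have heq : Φ ∘ w = fun o : Option (Fin n) =>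
        o.elim (AddMonoidAlgebra.single i₀ (fR a₀)) fun i => C (q (proj I J (ψ (z i)))) := by
      funext o
      cases o with
      | none => exact hx₀
      | some i => exact (hT (z i)).1
    rw [heq, hgz.option_iff_transcendental]
    rintro ⟨P, hP, hPz⟩
    refine hP (Polynomial.ext fun j => ?_)
    rw [Polynomial.coeff_zero]
    have hEle : Algebra.adjoin k (Set.range fun i => C (q (proj I J (ψ (z i))))) ≤ C.range :=
      Algebra.adjoin_le (by rintro _ ⟨i, rfl⟩; exact ⟨_, rfl⟩)
    choose d hd using fun j => hEle (P.coeff j).2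
    rw [Polynomial.aeval_eq_sum_range] at hPz
    have hterm : ∀ j, (P.coeff j) • (AddMonoidAlgebra.single i₀ (fR a₀)) ^ j =
        AddMonoidAlgebra.single ((j : ℤ) * i₀) (d j * fR a₀ ^ j) := by
      intro j
      rw [AddMonoidAlgebra.single_pow, Subalgebra.smul_def, smul_eq_mul]
      rw [← hd j]
      show C (d j) * _ = _
      rw [hC, AddMonoidAlgebra.single_mul_single]
      simp
    simp only [hterm] at hPz
    by_cases hj : j ∈ Finset.range (P.natDegree + 1)
    · have h2 := congrArg (fun F : AddMonoidAlgebra D ℤ => F.coeff ((j : ℤ) * i₀)) hPz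
      simp only [AddMonoidAlgebra.coeff_sum, AddMonoidAlgebra.coeff_single,
        Finsupp.finsetSum_apply, AddMonoidAlgebra.coeff_zero, Finsupp.zero_apply] at h2
      rw [Finset.sum_eq_single j, Finsupp.single_eq_same] at h2
      · have hdj : d j = 0 := (mul_eq_zero.mp h2).resolve_right (pow_ne_zero _ hc)
        refine Subtype.ext ?_
        rw [← hd j, hdj]
        exact map_zero C
      · intro l _ hl
        refine Finsupp.single_eq_of_ne fun h => hl ?_
        have := mul_right_cancel₀ (ne_of_gt hi₀) h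
        omega
      · exact fun h => absurd hj h
    · exact Polynomial.coeff_eq_zero_of_natDegree_lt (by simpa [Nat.lt_succ_iff] using hj)
  have hw' := hw.comp (finSuccEquiv n) (finSuccEquiv n).injective
  haveI : Algebra.FiniteType k ((R ⧸ I) ⊗[k] (S ⧸ J)) :=
    Algebra.FiniteType.trans (S := R ⧸ I) inferInstance inferInstance
  have hle := le_ringKrullDim_of_algIndep hw'
  rw [ringKrullDim_tensor_le hr hs] at hle
  have : n + 1 ≤ r + s := by exact_mod_cast hle
  omega

end Groth.Agent.GrSegreLib
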