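import Groth.Agent.GrSegreLib.Lower

/-!
# Dimensions of Segre products
-/

open DirectSum TensorProduct MvPolynomial

set_option linter.style.haveILetI false
set_option linter.unusedSectionVars false

namespace Groth.Agent.GrSegreLib

universe u

variable {k : Type u} [Field k] {R S : Type u} [CommRing R] [CommRing S] [Algebra k R] [Algebra k S]
  (𝒜 : ℤ → Submodule k R) [GradedAlgebra 𝒜] (ℬ : ℤ → Submodule k S) [GradedAlgebra ℬ]
  {T : Type u} [CommRing T] [Algebra k T] (𝒯 : ℤ → Submodule k T) [GradedAlgebra 𝒯]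
  (ψ : T →ₐ[k] R ⊗[k] S)

/-- A nonnegative number bounds and computes the dimension of a nontrivial finitely generated algebra. -/
theorem exists_nat_ringKrullDim {A : Type u} [CommRing A] [Algebra k A] [Algebra.FiniteType k A]
    [Nontrivial A] : ∃ n : ℕ, ringKrullDim A = n := by
  obtain ⟨n, g, hg, hgi⟩ := exists_integral_inj_algHom_of_fg k A
  refine ⟨n, ?_⟩
  rw [← ringKrullDim_eq_of_integral_injective g.toRingHom hg hgi,
    MvPolynomial.ringKrullDim_of_isNoetherianRing, ringKrullDim_eq_zero_of_field]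
  simp

variable {M N : Type u} [AddCommGroup M] [Module R M] [Module k M] [IsScalarTower k R M]
  [AddCommGroup N] [Module S N] [Module k N] [IsScalarTower k S N]

theorem act_eq_zero_of_proj_eq_zero (Z : R ⊗[k] S)
    (hZ : proj (Module.annihilator R M) (Module.annihilator S N) Z = 0) (q : M ⊗[k] N) :
    GrSeg.act k R S M N Z q = 0 := by
  let K : Ideal (R ⊗[k] S) :=
    { carrier := {Z | ∀ q, GrSeg.act k R S M N Z q = 0}
      zero_mem' := fun q => by simp
      add_mem' := fun {a b} ha hb q => by simp [ha q, hb q]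
      smul_mem' := fun c a ha q => by rw [smul_eq_mul, act_mul, ha, map_zero] }
  have hle : RingHom.ker (proj (k := k) (Module.annihilator R M) (Module.annihilator S N)) ≤ K := by
    rw [Algebra.TensorProduct.map_ker _ _ (Ideal.Quotient.mkₐ_surjective k _)
      (Ideal.Quotient.mkₐ_surjective k _)]
    refine sup_le ?_ ?_
    · rw [Ideal.map_le_iff_le_comap]
      intro a ha q
      rw [RingHom.mem_ker, Ideal.Quotient.mkₐ_eq_mk, Ideal.Quotient.eq_zero_iff_mem] at ha
      induction q using TensorProduct.induction_on with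
      | zero => simp
      | tmul x y => simp [GrSeg.act_tmul, Module.mem_annihilator.mp ha x]
      | add x y hx hy => simp only [map_add, hx, hy, add_zero]
    · rw [Ideal.map_le_iff_le_comap]
      intro b hb q
      rw [RingHom.mem_ker, Ideal.Quotient.mkₐ_eq_mk, Ideal.Quotient.eq_zero_iff_mem] at hb
      induction q using TensorProduct.induction_on with
      | zero => simp
      | tmul x y => simp [GrSeg.act_tmul, Module.mem_annihilator.mp hb y]
      | add x y hx hy => simp only [map_add, hx, hy, add_zero]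
  exact hle hZ q

section Annihilator

theorem component_mem_annihilator (ℳ : ℤ → AddSubgroup M) [Decomposition ℳ]
    [SetLike.GradedSMul 𝒜 ℳ] {r : R} (hr : r ∈ Module.annihilator R M) (i : ℤ) :
    (decompose 𝒜 r i : R) ∈ Module.annihilator R M := by
  rw [Module.mem_annihilator]
  intro x
  induction x using Decomposition.inductionOn ℳ with
  | zero => simp
  | @homogeneous j y =>
    have h := pr_smul_homogeneous 𝒜 ℳ r y.2 (i + j)
    rw [Module.mem_annihilator.mp hr, pr_zero, add_sub_cancel_right] at h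
    exact h.symm
  | add a b ha hb => rw [smul_add, ha, hb, add_zero]

end Annihilator

/-- Elements independent modulo the annihilator act freely on some homogeneous vector. -/
theorem exists_free_vector (ℳ : ℤ → AddSubgroup M) [Decomposition ℳ] [Module.Finite R M] {r : ℕ}
    {u : Fin r → R} (hu : AlgebraicIndependent k
      (fun i => Ideal.Quotient.mkₐ k (Module.annihilator R M) (u i))) :
    ∃ (n : ℤ) (x : M), x ∈ ℳ n ∧ ∀ F : MvPolynomial (Fin r) k, aeval u F • x = 0 → F = 0 := by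
  obtain ⟨l, m, d, hm, hspan⟩ := exists_homogeneous_generators (R := R) ℳ
  by_contra hcon
  push Not at hcon
  choose F hF hF0 using fun i => hcon (d i) (m i) (hm i)
  refine Finset.prod_ne_zero_iff.mpr (fun i _ => hF0 i) ((?_ : ∏ i, F i = 0))
  refine (injective_iff_map_eq_zero _).mp (algebraicIndependent_iff_injective_aeval.mp hu) _ ?_
  rw [show (aeval fun i => Ideal.Quotient.mkₐ k (Module.annihilator R M) (u i)) (∏ i, F i) =
      Ideal.Quotient.mkₐ k (Module.annihilator R M) (aeval u (∏ i, F i)) from by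
    rw [← AlgHom.comp_apply, comp_aeval], Ideal.Quotient.mkₐ_eq_mk, Ideal.Quotient.eq_zero_iff_mem,
    Module.mem_annihilator]
  intro x
  have hx : x ∈ Submodule.span R (Set.range m) := by rw [hspan]; trivial
  induction hx using Submodule.span_induction with
  | mem z hz =>
    obtain ⟨i, rfl⟩ := hz
    rw [← Finset.prod_erase_mul _ _ (Finset.mem_univ i), map_mul, mul_smul, hF i, smul_zero]
  | zero => exact smul_zero _
  | add a b _ _ ha hb => rw [smul_add, ha, hb, add_zero]
  | smul c a _ ha => rw [smul_comm, ha, smul_zero]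

section Standard

variable (hstd : Ideal.span (⋃ n ∈ Set.Ioi (0 : ℤ), (𝒜 n : Set R)) = Ideal.span ((𝒜 1 : Submodule k R) : Set R))

include hstd in
/-- In a standard graded algebra `R_{n+1} = R_1 R_n`. -/
theorem piece_succ_le {n : ℤ} (hn : 0 ≤ n) {c : R} (hc : c ∈ 𝒜 (n + 1)) :
    c ∈ Submodule.span k (Set.image2 (· * ·) (𝒜 n : Set R) (𝒜 1 : Set R)) := by
  have hmem : c ∈ Ideal.span ((𝒜 1 : Submodule k R) : Set R) := by
    rw [← hstd]
    exact Ideal.subset_span (Set.mem_biUnion (show (0 : ℤ) < n + 1 by omega) hc)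
  suffices h : ∀ y ∈ Ideal.span ((𝒜 1 : Submodule k R) : Set R), ∀ r : R,
      (decompose 𝒜 (r * y) (n + 1) : R) ∈
        Submodule.span k (Set.image2 (· * ·) (𝒜 n : Set R) (𝒜 1 : Set R)) by
    simpa [decompose_of_mem_same 𝒜 hc] using h c hmem 1
  intro y hy
  induction hy using Submodule.span_induction with
  | mem a ha =>
    intro r
    rw [coe_decompose_mul_add_of_right_mem 𝒜 ha]
    exact Submodule.subset_span ⟨_, (decompose 𝒜 r n).2, a, ha, rfl⟩
  | zero => intro r; simp
  | add a b _ _ ha hb =>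
    intro r
    rw [mul_add, decompose_add]
    exact Submodule.add_mem _ (ha r) (hb r)
  | smul r' a _ ha =>
    intro r
    rw [smul_eq_mul, ← mul_assoc]
    exact ha _

end Standard

section Shift

variable (hstd : Ideal.span (⋃ n ∈ Set.Ioi (0 : ℤ), (𝒜 n : Set R)) = Ideal.span ((𝒜 1 : Submodule k R) : Set R))

include hstd in
/-- A free vector can be moved up by any degree. -/
theorem exists_free_smul (ℳ : ℤ → AddSubgroup M) [SetLike.GradedSMul 𝒜 ℳ] {r : ℕ} {D : ℕ}
    (hD : 0 < D) {u : Fin (r + 1) → R} (hu : ∀ i, u i ∈ 𝒜 (D : ℤ)) {p : ℤ} {x : M} (hx : x ∈ ℳ p)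
    (hfree : ∀ F : MvPolynomial (Fin (r + 1)) k, aeval u F • x = 0 → F = 0) (e : ℕ) :
    ∃ x', x' ∈ ℳ ((e : ℤ) + p) ∧
      ∀ F : MvPolynomial (Fin (r + 1)) k, aeval u F • x' = 0 → F = 0 := by
  suffices h : ∃ c ∈ 𝒜 (e : ℤ),
      ∀ F : MvPolynomial (Fin (r + 1)) k, aeval u F • c • x = 0 → F = 0 by
    obtain ⟨c, hc, hcx⟩ := h
    refine ⟨c • x, ?_, hcx⟩
    simpa using SetLike.GradedSMul.smul_mem (A := 𝒜) (B := ℳ) hc hx
  by_contra hcon
  push Not at hcon
  have hall : ∀ j : ℕ, ∀ c ∈ 𝒜 ((e + j : ℕ) : ℤ), ∃ F : MvPolynomial (Fin (r + 1)) k,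
      aeval u F • c • x = 0 ∧ F ≠ 0 := by
    intro j
    induction j with
    | zero => exact fun c hc => hcon c hc
    | succ j ih =>
      intro c hc
      have hc' := piece_succ_le 𝒜 hstd (Int.natCast_nonneg (e + j)) (c := c) (by
        convert hc using 2; push_cast; ring)
      clear hc
      induction hc' using Submodule.span_induction with
      | mem a ha =>
        obtain ⟨a', ha', b', -, rfl⟩ := ha
        obtain ⟨F, hF, hF0⟩ := ih a' ha'
        refine ⟨F, ?_, hF0⟩
        show aeval u F • (a' * b') • x = 0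
        rw [show a' * b' = b' * a' from mul_comm _ _, mul_smul, smul_comm, hF, smul_zero]
      | zero => exact ⟨1, by simp, one_ne_zero⟩
      | add a b ha hb iha ihb =>
        obtain ⟨F, hF, hF0⟩ := iha
        obtain ⟨G, hG, hG0⟩ := ihb
        refine ⟨F * G, ?_, mul_ne_zero hF0 hG0⟩
        rw [add_smul, smul_add, map_mul, mul_smul, mul_smul, hG, smul_comm (aeval u F), hF]
        simp
      | smul l a ha iha =>
        obtain ⟨F, hF, hF0⟩ := iha
        refine ⟨F, ?_, hF0⟩
        rw [smul_assoc, smul_comm, hF, smul_zero]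
  obtain ⟨F, hF, hF0⟩ := hall (e * D - e) (u 0 ^ e) (by
    have h := SetLike.pow_mem_graded e (hu 0)
    convert h using 2
    rw [Nat.add_sub_cancel' (Nat.le_mul_of_pos_right e hD)]
    simp)
  have h2 := hfree (F * X 0 ^ e) (by rw [map_mul, map_pow, aeval_X, mul_smul]; exact hF)
  exact mul_ne_zero hF0 (pow_ne_zero _ (X_ne_zero _)) h2

end Shift

variable (ℳ : ℤ → AddSubgroup M) [Decomposition ℳ] [SetLike.GradedSMul 𝒜 ℳ]
  (𝒩 : ℤ → AddSubgroup N) [Decomposition 𝒩] [SetLike.GradedSMul ℬ 𝒩]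
  {P : Type u} [AddCommGroup P] [Module T P] [Module k P] [IsScalarTower k T P]
  (𝒬 : ℤ → AddSubgroup P) [Decomposition 𝒬] (φ : P →ₗ[k] M ⊗[k] N)

theorem one_le_dim_of_not_isArtinian [IsNoetherianRing R] [Module.Finite R M] {d : ℕ}
    (hd : ringKrullDim (R ⧸ Module.annihilator R M) = d) (hA : ¬ IsArtinian R M) : 1 ≤ d := by
  by_contra h
  obtain rfl : d = 0 := by omega
  haveI : Ring.KrullDimLE 0 (R ⧸ Module.annihilator R M) :=
    (Ring.krullDimLE_iff).mpr (by rw [hd])
  haveI := IsNoetherianRing.isArtinianRing_of_krullDimLE_zero (R := R ⧸ Module.annihilator R M)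
  letI := Module.quotientAnnihilator (R := R) (M := M)
  haveI : IsScalarTower R (R ⧸ Module.annihilator R M) M :=
    IsScalarTower.of_algebraMap_smul fun _ _ => rfl
  haveI : Module.Finite (R ⧸ Module.annihilator R M) M := Module.Finite.of_restrictScalars_finite R _ M
  exact hA (isArtinian_of_surjective_algebraMap (R := R ⧸ Module.annihilator R M)
    Ideal.Quotient.mk_surjective)

/-- Equal-degree free vectors give `dim (M # N) = dim M + dim N - 1`. -/
theorem supportDim_segre_of_free (hposR : ∀ n : ℤ, n < 0 → 𝒜 n = ⊥)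
    (h0R : 𝒜 0 = Submodule.span k {(1 : R)}) [Algebra.FiniteType k R]
    (hposS : ∀ n : ℤ, n < 0 → ℬ n = ⊥) (h0S : ℬ 0 = Submodule.span k {(1 : S)})
    [Algebra.FiniteType k S] [Module.Finite R M] [Module.Finite S N]
    (hT : GrSeg.IsSegreRing 𝒜 ℬ 𝒯 ψ) (hP : GrSeg.IsSegreMod ψ ℳ 𝒩 𝒬 φ) {r s : ℕ}
    (hdM : ringKrullDim (R ⧸ Module.annihilator R M) = ((r + 1 : ℕ) : WithBot ℕ∞))
    (hdN : ringKrullDim (S ⧸ Module.annihilator S N) = ((s + 1 : ℕ) : WithBot ℕ∞))
    {D p : ℤ} (u : Fin (r + 1) → R) (hu : ∀ i, u i ∈ 𝒜 D)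
    (v : Fin (s + 1) → S) (hv : ∀ i, v i ∈ ℬ D) (x : M) (hx : x ∈ ℳ p)
    (hxf : ∀ F : MvPolynomial (Fin (r + 1)) k, aeval u F • x = 0 → F = 0) (y : N) (hy : y ∈ 𝒩 p)
    (hyf : ∀ F : MvPolynomial (Fin (s + 1)) k, aeval v F • y = 0 → F = 0) :
    Module.supportDim T P = ((r + 1 + (s + 1) - 1 : ℕ) : WithBot ℕ∞) := by
  haveI := moduleFinite_segre 𝒜 ℬ 𝒯 ψ ℳ 𝒩 𝒬 φ hposR h0R hposS h0S hT.2 hP
  haveI := finiteType_segre 𝒜 ℬ 𝒯 ψ hposR h0R hposS h0S hT.1 hT.2
  rw [Module.supportDim_eq_ringKrullDim_quotient_annihilator]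
  haveI : Algebra.FiniteType k (T ⧸ Module.annihilator T P) :=
    Algebra.FiniteType.of_surjective (Ideal.Quotient.mkₐ k _) (Ideal.Quotient.mkₐ_surjective k _)
  obtain ⟨w, hw⟩ := lower_bound 𝒜 ℬ 𝒯 ψ hT.2 u hu v hv x hxf y hyf
  have himg : x ⊗ₜ[k] y ∈ (GrSeg.segrePiece k ℳ 𝒩 p : Set (M ⊗[k] N)) :=
    Submodule.subset_span ⟨x, hx, y, hy, rfl⟩
  rw [← hP.image_piece] at himg
  obtain ⟨z, -, hz⟩ := himg
  have hwI : AlgebraicIndependent k
      (fun i => Ideal.Quotient.mkₐ k (Module.annihilator T P) (w i)) := by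
    rw [algebraicIndependent_iff_injective_aeval, injective_iff_map_eq_zero]
    intro F hF
    rw [show (aeval fun i => Ideal.Quotient.mkₐ k (Module.annihilator T P) (w i)) F =
        Ideal.Quotient.mkₐ k (Module.annihilator T P) (aeval w F) from by
      rw [← AlgHom.comp_apply, comp_aeval], Ideal.Quotient.mkₐ_eq_mk,
      Ideal.Quotient.eq_zero_iff_mem] at hF
    refine hw F ?_
    rw [← hz, ← hP.map_smul, Module.mem_annihilator.mp hF z, map_zero]
  haveI : Nontrivial (T ⧸ Module.annihilator T P) :=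
    (algebraicIndependent_iff_injective_aeval.mp hwI).nontrivial
  obtain ⟨n, hn⟩ := exists_nat_ringKrullDim (k := k) (A := T ⧸ Module.annihilator T P)
  have hlow := le_ringKrullDim_of_algIndep hwI
  rw [hn] at hlow ⊢
  have hlow' : r + 1 + s ≤ n := by exact_mod_cast hlow
  obtain ⟨z', hz'⟩ := exists_algIndep (k := k) hn
  choose t ht using fun i => Ideal.Quotient.mk_surjective (z' i)
  have hup := upper_bound 𝒜 ℬ 𝒯 ψ hposR h0R h0S
    (Module.annihilator R M) (fun a ha i => component_mem_annihilator 𝒜 ℳ ha i)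
    (Module.annihilator S N) (fun a ha i => component_mem_annihilator ℬ 𝒩 ha i)
    hT.2 hdM hdN (z := t) (by
      rw [algebraicIndependent_iff_injective_aeval, injective_iff_map_eq_zero]
      intro F hF
      refine (injective_iff_map_eq_zero _).mp (algebraicIndependent_iff_injective_aeval.mp hz') F ?_
      have hcomp : (proj (k := k) (Module.annihilator R M) (Module.annihilator S N)).comp ψ
          (aeval t F) = 0 := by
        rw [← AlgHom.comp_apply, comp_aeval]; exact hF
      have hann : aeval t F ∈ Module.annihilator T P := by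
        rw [Module.mem_annihilator]
        intro z
        refine hP.injective ?_
        rw [hP.map_smul, map_zero]
        exact act_eq_zero_of_proj_eq_zero _ hcomp _
      have h3 : (aeval z') F = Ideal.Quotient.mkₐ k (Module.annihilator T P) (aeval t F) := by
        rw [← AlgHom.comp_apply, comp_aeval]
        exact DFunLike.congr_fun (congrArg aeval (funext fun i => (ht i).symm)) F
      rw [h3, Ideal.Quotient.mkₐ_eq_mk, Ideal.Quotient.eq_zero_iff_mem]
      exact hann)
  congr 2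
  omega


/-- `dim (M # N) = dim M + dim N - 1` for non-Artinian modules over standard graded algebras. -/
theorem supportDim_segre (hposR : ∀ n : ℤ, n < 0 → 𝒜 n = ⊥)
    (h0R : 𝒜 0 = Submodule.span k {(1 : R)}) [Algebra.FiniteType k R]
    (hposS : ∀ n : ℤ, n < 0 → ℬ n = ⊥) (h0S : ℬ 0 = Submodule.span k {(1 : S)})
    [Algebra.FiniteType k S] [Module.Finite R M] [Module.Finite S N]
    (hT : GrSeg.IsSegreRing 𝒜 ℬ 𝒯 ψ) (hP : GrSeg.IsSegreMod ψ ℳ 𝒩 𝒬 φ)
    (hstdR : Ideal.span (⋃ n ∈ Set.Ioi (0 : ℤ), (𝒜 n : Set R)) =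
      Ideal.span ((𝒜 1 : Submodule k R) : Set R))
    (hstdS : Ideal.span (⋃ n ∈ Set.Ioi (0 : ℤ), (ℬ n : Set S)) =
      Ideal.span ((ℬ 1 : Submodule k S) : Set S))
    {dM dN : ℕ} (hdM : Module.supportDim R M = dM) (hdN : Module.supportDim S N = dN)
    (hMA : ¬ IsArtinian R M) (hNA : ¬ IsArtinian S N) :
    Module.supportDim T P = ((dM + dN - 1 : ℕ) : WithBot ℕ∞) := by
  haveI : IsNoetherianRing R := Algebra.FiniteType.isNoetherianRing k R
  haveI : IsNoetherianRing S := Algebra.FiniteType.isNoetherianRing k S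
  rw [Module.supportDim_eq_ringKrullDim_quotient_annihilator] at hdM hdN
  obtain ⟨r, rfl⟩ := Nat.exists_eq_succ_of_ne_zero
    (Nat.one_le_iff_ne_zero.mp (one_le_dim_of_not_isArtinian hdM hMA))
  obtain ⟨s, rfl⟩ := Nat.exists_eq_succ_of_ne_zero
    (Nat.one_le_iff_ne_zero.mp (one_le_dim_of_not_isArtinian hdN hNA))
  obtain ⟨DR, hDR, hR'⟩ := exists_homogeneous_algIndep 𝒜 hposR h0R _ hdM
  obtain ⟨DS, hDS, hS'⟩ := exists_homogeneous_algIndep ℬ hposS h0S _ hdN
  obtain ⟨u, hu, huI⟩ := hR' DS hDS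
  obtain ⟨v, hv, hvJ⟩ := hS' DR hDR
  rw [Nat.mul_comm DR DS] at hv
  obtain ⟨p, x, hx, hxf⟩ := exists_free_vector ℳ huI
  obtain ⟨q, y, hy, hyf⟩ := exists_free_vector 𝒩 hvJ
  obtain ⟨x', hx', hxf'⟩ := exists_free_smul 𝒜 hstdR ℳ (Nat.mul_pos hDS hDR) hu hx hxf (q - p).toNat
  obtain ⟨y', hy', hyf'⟩ := exists_free_smul ℬ hstdS 𝒩 (Nat.mul_pos hDS hDR) hv hy hyf (p - q).toNat
  have hdeg : ((q - p).toNat : ℤ) + p = ((p - q).toNat : ℤ) + q := by omega
  rw [add_comm] at hdeg
  rw [Int.add_comm] at hx'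
  refine supportDim_segre_of_free 𝒜 ℬ 𝒯 ψ ℳ 𝒩 𝒬 φ hposR h0R hposS h0S hT hP hdM hdN u hu v hv x' ?_
    hxf' y' ?_ hyf' (p := p + ((q - p).toNat : ℤ))
  · exact hx'
  · rw [hdeg]; exact hy'

end Groth.Agent.GrSegreLib
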