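import Groth.Agent.GrSegreLib.Homog
import Groth.Agent.GrSegreLib.Main
import Groth.Prelude.Def_CAlg

/-!
# Graded Cohen–Macaulay modules over `R` with `R₀ = k` are equidimensional
-/

open DirectSum MvPolynomial TensorProduct Pointwise

set_option linter.style.haveILetI false
set_option linter.unusedSectionVars false

namespace Groth.Agent.GrSegreLib

universe u v

/-- `dim A/q + 1 ≤ dim A/p` for primes `p < q`. -/
theorem ringKrullDim_quotient_succ_le {A : Type v} [CommRing A] {p q : Ideal A} [hp : p.IsPrime]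
    (hpq : p < q) : ringKrullDim (A ⧸ q) + 1 ≤ ringKrullDim (A ⧸ p) := by
  rcases eq_or_ne q ⊤ with rfl | hq
  · rw [ringKrullDim_eq_bot_of_subsingleton, WithBot.bot_add]
    exact bot_le
  haveI : Nontrivial (A ⧸ q) := Ideal.Quotient.nontrivial_iff.mpr hq
  rw [ringKrullDim_quotient, ringKrullDim_quotient]
  haveI : Nonempty (PrimeSpectrum.zeroLocus (q : Set A)) :=
    let ⟨mq, hmq, hle⟩ := q.exists_le_maximal hq
    ⟨⟨⟨mq, hmq.isPrime⟩, hle⟩⟩
  haveI : Nonempty (PrimeSpectrum.zeroLocus (p : Set A)) :=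
    ⟨⟨⟨p, hp⟩, fun _ h => h⟩⟩
  rw [Order.krullDim_eq_iSup_length, Order.krullDim_eq_iSup_length, ← WithBot.coe_one,
    ← WithBot.coe_add, WithBot.coe_le_coe, ENat.iSup_add]
  refine iSup_le fun c => ?_
  have hsub : PrimeSpectrum.zeroLocus (q : Set A) ⊆ PrimeSpectrum.zeroLocus (p : Set A) :=
    fun x hx => hpq.le.trans hx
  let c' : LTSeries (PrimeSpectrum.zeroLocus (p : Set A)) :=
    c.map (fun x => ⟨x.1, hsub x.2⟩) (fun _ _ h => h)
  have hlt : (⟨⟨p, hp⟩, fun _ hx => hx⟩ : PrimeSpectrum.zeroLocus (p : Set A)) < c'.head :=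
    show (⟨p, hp⟩ : PrimeSpectrum A) < c.head.1 from hpq.trans_le c.head.2
  refine le_trans ?_ (le_iSup _ (c'.cons _ hlt))
  rw [show (c'.cons _ hlt).length = c.length + 1 from by simp [RelSeries.cons_length, c', LTSeries.map]]
  push_cast
  exact le_rfl

/-- Over a local ring, regular sequences are no longer than `dim A/p` for associated `p`. -/
theorem length_le_of_mem_associatedPrimes {A : Type v} [CommRing A] [IsNoetherianRing A]
    [IsLocalRing A] (rs : List A) :
    ∀ (M : Type v) [AddCommGroup M] [Module A M] [Module.Finite A M],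
      RingTheory.Sequence.IsWeaklyRegular M rs → (∀ r ∈ rs, r ∈ IsLocalRing.maximalIdeal A) →
      ∀ p ∈ associatedPrimes A M, ((rs.length : ℕ∞) : WithBot ℕ∞) ≤ ringKrullDim (A ⧸ p) := by
  induction rs with
  | nil =>
    intro M _ _ _ _ _ p hp
    haveI : Nontrivial (A ⧸ p) := Ideal.Quotient.nontrivial_iff.mpr hp.1.ne_top
    simpa using ringKrullDim_nonneg_of_nontrivial (R := A ⧸ p)
  | cons x rs ih =>
    intro M _ _ _ hreg hmem p hp
    obtain ⟨hx, hrs⟩ := (RingTheory.Sequence.isWeaklyRegular_cons_iff M x rs).mp hreg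
    obtain ⟨hpp, y, hy⟩ := isAssociatedPrime_iff.mp hp
    haveI := hpp
    have hyp : ∀ a, a ∈ p ↔ a • y = 0 := fun a => by
      rw [hy, Submodule.mem_colon_singleton, Submodule.mem_bot]
    have hxp : x ∉ p := fun h => hpp.ne_top ((Ideal.eq_top_iff_one _).mpr ((hyp 1).mpr (by
      rw [one_smul]
      exact hx (by simpa using (hyp x).mp h))))
    let N : Submodule A M :=
      { carrier := {z | ∀ a ∈ p, a • z = 0}
        zero_mem' := fun a _ => smul_zero a
        add_mem' := fun {u w} hu hw a ha => by rw [smul_add, hu a ha, hw a ha, add_zero]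
        smul_mem' := fun c z hz a ha => by rw [smul_comm, hz a ha, smul_zero] }
    have hNne : N ≠ ⊥ := fun h => hpp.ne_top ((Ideal.eq_top_iff_one _).mpr ((hyp 1).mpr (by
      have hyN : y ∈ N := fun a ha => (hyp a).mp ha
      rw [h, Submodule.mem_bot] at hyN
      rw [hyN, smul_zero])))
    obtain ⟨z, hzN, hz⟩ : ∃ z ∈ N, z ∉ x • (⊤ : Submodule A M) := by
      by_contra hcon
      push Not at hcon
      refine hNne (Submodule.eq_bot_of_le_smul_of_le_jacobson_bot (Ideal.span {x}) N
        (IsNoetherian.noetherian N) ?_ ?_)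
      · intro z hz
        obtain ⟨w, -, rfl⟩ := (Submodule.mem_smul_pointwise_iff_exists z x ⊤).mp (hcon z hz)
        refine Submodule.smul_mem_smul (Ideal.mem_span_singleton_self x) fun a ha => hx ?_
        show x • (a • w) = x • 0
        rw [smul_comm, hz a ha, smul_zero]
      · rw [IsLocalRing.jacobson_eq_maximalIdeal ⊥ bot_ne_top, Ideal.span_singleton_le_iff_mem]
        exact hmem x (List.mem_cons_self ..)
    let q0 : QuotSMulTop x M := Submodule.Quotient.mk z
    have hq0 : q0 ≠ 0 := fun h => hz ((Submodule.Quotient.mk_eq_zero _).mp h)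
    obtain ⟨q, hq, hle⟩ := exists_le_isAssociatedPrime_of_isNoetherianRing A q0 hq0
    have hann : ∀ a : A, a • q0 = 0 → a ∈ q := fun a ha =>
      hle (Submodule.mem_colon_singleton.mpr (by rwa [Submodule.mem_bot]))
    have hpq : p < q := by
      refine lt_of_le_of_ne (fun a ha => hann a ?_) fun h => hxp (h ▸ hann x ?_)
      · rw [show a • q0 = Submodule.Quotient.mk (a • z) from rfl, hzN a ha, Submodule.Quotient.mk_zero]
      · rw [show x • q0 = Submodule.Quotient.mk (x • z) from rfl, Submodule.Quotient.mk_eq_zero]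
        exact Submodule.smul_mem_pointwise_smul z x ⊤ trivial
    have h1 := ih (QuotSMulTop x M) hrs (fun r hr => hmem r (List.mem_cons_of_mem _ hr)) q hq
    have h2 := ringKrullDim_quotient_succ_le hpq
    refine le_trans ?_ h2
    rw [List.length_cons, Nat.cast_add, WithBot.coe_add, Nat.cast_one, WithBot.coe_one]
    gcongr

variable {k R : Type u} [Field k] [CommRing R] [Algebra k R]
  (𝒜 : ℤ → Submodule k R) [GradedAlgebra 𝒜]
  {M : Type u} [AddCommGroup M] [Module R M] [Module k M] [IsScalarTower k R M]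
  (ℳ : ℤ → AddSubgroup M) [Decomposition ℳ] [SetLike.GradedSMul 𝒜 ℳ]

/-- On a graded Cohen–Macaulay module every nonzero homogeneous vector has annihilator of full
dimension. -/
theorem ringKrullDim_quotient_vectorAnnihilator (hpos : ∀ n : ℤ, n < 0 → 𝒜 n = ⊥)
    (h0 : 𝒜 0 = Submodule.span k {(1 : R)}) [Algebra.FiniteType k R] [Module.Finite R M]
    {r : ℕ} (hd : Module.supportDim R M = r)
    (hcm : ∀ (q : Ideal R) [q.IsPrime], Subsingleton (LocalizedModule q.primeCompl M) ∨
      LocCoh.IsCohenMacaulayModule (Localization.AtPrime q) (LocalizedModule q.primeCompl M))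
    {n : ℤ} {x : M} (hx : x ∈ ℳ n) (hx0 : x ≠ 0) :
    ringKrullDim (R ⧸ LinearMap.ker (LinearMap.toSpanSingleton R M x)) = r := by
  classical
  haveI : IsNoetherianRing R := Algebra.FiniteType.isNoetherianRing k R
  set A := LinearMap.ker (LinearMap.toSpanSingleton R M x) with hA
  have hmemA : ∀ a, a ∈ A ↔ a • x = 0 := fun a => by simp [hA]
  have hAhom : A.IsHomogeneous 𝒜 := by
    intro i a ha
    rw [hmemA] at ha ⊢
    have h := pr_smul_homogeneous 𝒜 ℳ a hx (i + n)
    rw [ha, pr_zero, add_sub_cancel_right] at h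
    exact h.symm
  have hAne : A ≠ ⊤ := fun h => hx0 (by simpa using (hmemA 1).mp (h ▸ trivial))
  haveI : Nontrivial R := ⟨1, 0, fun h => hx0 (by rw [← one_smul R x, h, zero_smul])⟩
  haveI := irr_isMaximal 𝒜 hpos h0
  rw [Module.supportDim_eq_ringKrullDim_quotient_annihilator] at hd
  have hAnn : Module.annihilator R M ≤ A := fun a ha => (hmemA a).mpr (Module.mem_annihilator.mp ha x)
  refine le_antisymm (hd ▸ ringKrullDim_le_of_surjective (Ideal.Quotient.factor hAnn)
    (Ideal.Quotient.factor_surjective hAnn)) ?_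
  set m := irr 𝒜 with hm
  let L := Localization.AtPrime m
  let ML := LocalizedModule m.primeCompl M
  -- an associated prime over `A`
  obtain ⟨q, hq, hqm⟩ := Ideal.exists_minimalPrimes_le (le_irr 𝒜 hpos h0 hAhom hAne)
  haveI := hq.1.1
  have hann : Module.annihilator R (Submodule.span R {x}) = A := by
    ext a
    rw [hmemA, ← Submodule.mem_annihilator_span_singleton]
  have hqass : q ∈ associatedPrimes R M := by
    refine associatedPrimes.subset_of_injective (f := (Submodule.span R {x}).subtype)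
      Subtype.val_injective ?_
    refine Module.associatedPrimes.minimalPrimes_annihilator_subset_associatedPrimes R _ ?_
    rw [hann]
    exact hq
  have hdisj : Disjoint (m.primeCompl : Set R) (q : Set R) :=
    Set.disjoint_left.mpr fun a ha haq => ha (hqm haq)
  let qL := q.map (algebraMap R L)
  haveI hqLp : qL.IsPrime :=
    IsLocalization.isPrime_of_isPrime_disjoint m.primeCompl L q inferInstance hdisj
  have hqL : qL.comap (algebraMap R L) = q :=
    IsLocalization.comap_map_of_isPrime_disjoint m.primeCompl L inferInstance hdisj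
  have hqLass : qL ∈ associatedPrimes L ML :=
    Module.associatedPrimes.mem_associatedPrimes_of_comap_mem_associatedPrimes_of_isLocalizedModule
      m.primeCompl (LocalizedModule.mkLinearMap m.primeCompl M) qL (by rw [hqL]; exact hqass)
  haveI hML : Nontrivial ML := by
    by_contra hcon
    rw [not_nontrivial_iff_subsingleton] at hcon
    exact not_isAssociatedPrime_of_subsingleton (R := L) (M := ML) (I := qL) hqLass
  have hcm' := (hcm m).resolve_left (not_subsingleton ML)
  -- depth bound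
  have hdepth : Module.supportDim L ML ≤ ringKrullDim (L ⧸ qL) := by
    rw [hcm']
    unfold LocCoh.depth LocCoh.idealDepth
    rw [if_neg (fun h => Submodule.top_ne_ideal_smul_of_le_jacobson_annihilator
      (R := L) (M := ML) (IsLocalRing.maximalIdeal_le_jacobson _) h.symm)]
    haveI : Nontrivial (L ⧸ qL) := Ideal.Quotient.nontrivial_iff.mpr hqLp.ne_top
    obtain ⟨d, hdL⟩ : ∃ d : ℕ∞, ringKrullDim (L ⧸ qL) = (d : WithBot ℕ∞) :=
      (WithBot.ne_bot_iff_exists.mp
        (by intro h; simpa [h] using ringKrullDim_nonneg_of_nontrivial (R := L ⧸ qL))).imp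
        fun _ h => h.symm
    rw [hdL, WithBot.coe_le_coe]
    refine iSup₂_le fun rs hrs => ?_
    have h := length_le_of_mem_associatedPrimes rs ML hrs.1 hrs.2 qL hqLass
    rwa [hdL, WithBot.coe_le_coe] at h
  -- `dim L/qL ≤ dim R/A`
  have hloc : ringKrullDim (L ⧸ qL) ≤ ringKrullDim (R ⧸ A) := by
    rw [ringKrullDim_quotient, ringKrullDim_quotient]
    refine Order.krullDim_le_of_strictMono
      (fun P => ⟨PrimeSpectrum.comap (algebraMap R L) P.1, ?_⟩) fun P P' h => ?_
    · intro a ha
      exact P.2 (Ideal.mem_map_of_mem _ (hq.1.2 ha))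
    · refine lt_of_le_of_ne (fun a ha => h.le ha) fun he => h.ne ?_
      exact Subtype.ext (PrimeSpectrum.localization_comap_injective L m.primeCompl
        (Subtype.ext_iff.mp he))
  -- `r ≤ supportDim L ML`
  obtain ⟨z, hz⟩ := exists_algIndep (k := k)
    (A := R ⧸ Module.annihilator R M) hd
  obtain ⟨Q, hQ, hzQ⟩ := exists_prime_algIndep hz
  haveI := hQ
  let Q' := Q.comap (Ideal.Quotient.mk (Module.annihilator R M))
  have hAnnQ : Module.annihilator R M ≤ Q' := fun a ha => by
    simp [Q', Ideal.Quotient.eq_zero_iff_mem.mpr ha]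
  obtain ⟨p0, hp0, hp0Q⟩ := Ideal.exists_minimalPrimes_le (J := Q') hAnnQ
  haveI := hp0.1.1
  have hAnnhom : (Module.annihilator R M).IsHomogeneous 𝒜 :=
    fun i a ha => component_mem_annihilator 𝒜 ℳ ha i
  have hr : (r : WithBot ℕ∞) ≤ ringKrullDim (R ⧸ p0) := by
    haveI : Algebra.FiniteType k (R ⧸ p0) :=
      Algebra.FiniteType.of_surjective (Ideal.Quotient.mkₐ k p0) (Ideal.Quotient.mkₐ_surjective k p0)
    choose z' hz' using fun i => Ideal.Quotient.mk_surjective (z i)
    refine le_ringKrullDim_of_algIndep (k := k) (A := R ⧸ p0) (z := fun i => Ideal.Quotient.mkₐ k p0 (z' i)) ?_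
    rw [algebraicIndependent_iff_injective_aeval, injective_iff_map_eq_zero]
    intro F hF
    refine (injective_iff_map_eq_zero _).mp (algebraicIndependent_iff_injective_aeval.mp hzQ) F ?_
    rw [show (aeval fun i => Ideal.Quotient.mkₐ k p0 (z' i)) F =
        Ideal.Quotient.mkₐ k p0 (aeval z' F) from by rw [← AlgHom.comp_apply, comp_aeval],
      Ideal.Quotient.mkₐ_eq_mk, Ideal.Quotient.eq_zero_iff_mem] at hF
    have h3 : (aeval fun i => Ideal.Quotient.mkₐ k Q (z i)) F = Ideal.Quotient.mkₐ k Q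
        (Ideal.Quotient.mkₐ k (Module.annihilator R M) (aeval z' F)) := by
      rw [← AlgHom.comp_apply, ← AlgHom.comp_apply, comp_aeval]
      exact DFunLike.congr_fun (congrArg aeval (funext fun i => congrArg (Ideal.Quotient.mkₐ k Q) (hz' i).symm)) F
    rw [h3, Ideal.Quotient.mkₐ_eq_mk, Ideal.Quotient.eq_zero_iff_mem]
    exact hp0Q hF
  obtain ⟨c, hch, hcl, hclen⟩ := exists_chain_to_irr 𝒜 hpos h0 p0
    (minimalPrimes_homogeneous 𝒜 hAnnhom hp0)
  have hcle : ∀ i, (c i).asIdeal ≤ m := fun i => by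
    rw [hm, ← hcl]
    exact PrimeSpectrum.asIdeal_le_asIdeal _ _ |>.mpr (c.monotone (Fin.le_last i))
  have hcdisj : ∀ i, Disjoint (m.primeCompl : Set R) ((c i).asIdeal : Set R) := fun i =>
    Set.disjoint_left.mpr fun a ha haq => ha (hcle i haq)
  have hsupp : ∀ i, (⟨(c i).asIdeal.map (algebraMap R L),
      IsLocalization.isPrime_of_isPrime_disjoint m.primeCompl L _ (c i).2 (hcdisj i)⟩ : PrimeSpectrum L)
      ∈ Module.support L ML := by
    intro i
    rw [Module.mem_support_iff_of_finite]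
    intro a ha
    obtain ⟨b, s, rfl⟩ := IsLocalization.exists_mk'_eq m.primeCompl a
    have hb : ∀ y : M, ∃ t ∈ m.primeCompl, (t * b) • y = 0 := by
      intro y
      have h := Module.mem_annihilator.mp ha (LocalizedModule.mk y 1)
      rw [← Localization.mk_eq_mk', LocalizedModule.mk_smul_mk, ← LocalizedModule.zero_mk (s * 1),
        LocalizedModule.mk_eq] at h
      obtain ⟨t, ht⟩ := h
      refine ⟨t * s, Submonoid.mul_mem _ t.2 s.2, ?_⟩
      rw [mul_smul, mul_smul]
      simpa [Submonoid.smul_def] using ht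
    obtain ⟨G, hG⟩ := (Module.Finite.fg_top : (⊤ : Submodule R M).FG)
    choose t ht htb using hb
    have hT : (∏ y ∈ G, t y) * b ∈ Module.annihilator R M := by
      rw [Module.mem_annihilator]
      intro y
      have hy : y ∈ Submodule.span R (G : Set M) := by rw [hG]; trivial
      induction hy using Submodule.span_induction with
      | mem w hw =>
        rw [← Finset.mul_prod_erase _ _ hw, show t w * (∏ l ∈ G.erase w, t l) * b =
          (∏ l ∈ G.erase w, t l) * (t w * b) by ring, mul_smul, htb, smul_zero]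
      | zero => exact smul_zero _
      | add u w _ _ hu hw => rw [smul_add, hu, hw, add_zero]
      | smul l u _ hu => rw [smul_comm, hu, smul_zero]
    have hle : Module.annihilator R M ≤ (c i).asIdeal := by
      refine hp0.1.2.trans ?_
      rw [← hch]
      exact PrimeSpectrum.asIdeal_le_asIdeal _ _ |>.mpr (c.monotone (Fin.zero_le i))
    have hbc : b ∈ (c i).asIdeal := ((c i).2.mem_or_mem (hle hT)).resolve_left fun h => by
      obtain ⟨w, -, hw⟩ := (c i).2.prod_mem_iff.mp h
      exact ht w (hcle i hw)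
    rw [IsLocalization.mk'_mem_map_algebraMap_iff]
    exact ⟨1, Submonoid.one_mem _, by simpa using hbc⟩
  have hlow : (c.length : WithBot ℕ∞) ≤ Module.supportDim L ML := by
    have hmono : StrictMono (fun i => (⟨_, hsupp i⟩ : Module.support L ML)) := fun i j hij => ?_
    · exact Order.LTSeries.length_le_krullDim
        (LTSeries.mk c.length (fun i => (⟨_, hsupp i⟩ : Module.support L ML)) hmono)
    refine lt_of_le_of_ne (Ideal.map_mono (c.strictMono hij).le) fun he => (c.strictMono hij).ne ?_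
    apply PrimeSpectrum.ext
    have h := congrArg (fun P : Module.support L ML => P.1.asIdeal.comap (algebraMap R L)) he
    simpa [IsLocalization.comap_map_of_isPrime_disjoint m.primeCompl L (c i).2 (hcdisj i),
      IsLocalization.comap_map_of_isPrime_disjoint m.primeCompl L (c j).2 (hcdisj j)] using h
  exact ((hr.trans hclen).trans hlow).trans (hdepth.trans hloc)

variable {S : Type u} [CommRing S] [Algebra k S] (ℬ : ℤ → Submodule k S) [GradedAlgebra ℬ]
  {T : Type u} [CommRing T] [Algebra k T] (𝒯 : ℤ → Submodule k T) [GradedAlgebra 𝒯]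
  (ψ : T →ₐ[k] R ⊗[k] S)
  {N : Type u} [AddCommGroup N] [Module S N] [Module k N] [IsScalarTower k S N]
  (𝒩 : ℤ → AddSubgroup N) [Decomposition 𝒩] [SetLike.GradedSMul ℬ 𝒩]
  {P : Type u} [AddCommGroup P] [Module T P] [Module k P] [IsScalarTower k T P]
  (𝒬 : ℤ → AddSubgroup P) [Decomposition 𝒬] (φ : P →ₗ[k] M ⊗[k] N)

/-- The dimension of the Segre product of Cohen–Macaulay modules. -/
theorem supportDim_segre_cm (hposR : ∀ n : ℤ, n < 0 → 𝒜 n = ⊥)
    (h0R : 𝒜 0 = Submodule.span k {(1 : R)}) [Algebra.FiniteType k R]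
    (hposS : ∀ n : ℤ, n < 0 → ℬ n = ⊥) (h0S : ℬ 0 = Submodule.span k {(1 : S)})
    [Algebra.FiniteType k S] [Module.Finite R M] [Module.Finite S N]
    (hT : GrSeg.IsSegreRing 𝒜 ℬ 𝒯 ψ) (hP : GrSeg.IsSegreMod ψ ℳ 𝒩 𝒬 φ) {r s : ℕ}
    (h1r : 1 ≤ r) (h1s : 1 ≤ s) (hdM : Module.supportDim R M = r) (hdN : Module.supportDim S N = s)
    (hMcm : ∀ (q : Ideal R) [q.IsPrime], Subsingleton (LocalizedModule q.primeCompl M) ∨
      LocCoh.IsCohenMacaulayModule (Localization.AtPrime q) (LocalizedModule q.primeCompl M))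
    (hNcm : ∀ (q : Ideal S) [q.IsPrime], Subsingleton (LocalizedModule q.primeCompl N) ∨
      LocCoh.IsCohenMacaulayModule (Localization.AtPrime q) (LocalizedModule q.primeCompl N)) :
    Module.supportDim T P = ((r + s - 1 : ℕ) : WithBot ℕ∞) ∨ Subsingleton P := by
  classical
  rcases subsingleton_or_nontrivial P with h | h
  · exact Or.inr h
  left
  obtain ⟨r, rfl⟩ := Nat.exists_eq_succ_of_ne_zero (Nat.one_le_iff_ne_zero.mp h1r)
  obtain ⟨s, rfl⟩ := Nat.exists_eq_succ_of_ne_zero (Nat.one_le_iff_ne_zero.mp h1s)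
  obtain ⟨n, x, hx, hx0, y, hy, hy0⟩ : ∃ (n : ℤ) (x : M), x ∈ ℳ n ∧ x ≠ 0 ∧
      ∃ y : N, y ∈ 𝒩 n ∧ y ≠ 0 := by
    obtain ⟨z, hz⟩ := exists_ne (0 : P)
    by_contra hcon
    push Not at hcon
    refine hz ?_
    rw [← sum_support_decompose 𝒬 z]
    refine Finset.sum_eq_zero fun n _ => hP.injective ?_
    rw [map_zero]
    have h : φ (decompose 𝒬 z n : P) ∈ (GrSeg.segrePiece k ℳ 𝒩 n : Set (M ⊗[k] N)) := by
      rw [← hP.image_piece]; exact ⟨_, (decompose 𝒬 z n).2, rfl⟩
    have hbot : GrSeg.segrePiece k ℳ 𝒩 n ≤ ⊥ := by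
      refine Submodule.span_le.mpr ?_
      rintro _ ⟨a, ha, b, hb, rfl⟩
      rcases eq_or_ne a 0 with rfl | ha0
      · simp
      · simp [hcon n a ha ha0 b hb]
    simpa using hbot h
  have hA := ringKrullDim_quotient_vectorAnnihilator 𝒜 ℳ hposR h0R hdM hMcm hx hx0
  have hB := ringKrullDim_quotient_vectorAnnihilator ℬ 𝒩 hposS h0S hdN hNcm hy hy0
  obtain ⟨DR, hDR, hR'⟩ := exists_homogeneous_algIndep 𝒜 hposR h0R _ hA
  obtain ⟨DS, hDS, hS'⟩ := exists_homogeneous_algIndep ℬ hposS h0S _ hB
  obtain ⟨u, hu, huI⟩ := hR' DS hDS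
  obtain ⟨v, hv, hvJ⟩ := hS' DR hDR
  rw [Nat.mul_comm DR DS] at hv
  rw [Module.supportDim_eq_ringKrullDim_quotient_annihilator] at hdM hdN
  refine supportDim_segre_of_free 𝒜 ℬ 𝒯 ψ ℳ 𝒩 𝒬 φ hposR h0R hposS h0S hT hP hdM hdN u hu v hv
    x hx (fun F hF => ?_) y hy (fun F hF => ?_)
  · refine (injective_iff_map_eq_zero _).mp (algebraicIndependent_iff_injective_aeval.mp huI) F ?_
    rw [← comp_aeval, AlgHom.comp_apply, Ideal.Quotient.mkₐ_eq_mk, Ideal.Quotient.eq_zero_iff_mem]
    simpa using hF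
  · refine (injective_iff_map_eq_zero _).mp (algebraicIndependent_iff_injective_aeval.mp hvJ) F ?_
    rw [← comp_aeval, AlgHom.comp_apply, Ideal.Quotient.mkₐ_eq_mk, Ideal.Quotient.eq_zero_iff_mem]
    simpa using hF

end Groth.Agent.GrSegreLib
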