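import Mathlib
import Groth.Prelude.Def_GrSeg

/-!
# Homogeneous generators of graded algebras and modules over a field
-/

open DirectSum

set_option linter.style.haveILetI false

set_option linter.unusedSectionVars false

namespace Groth.Agent.GrSegreLib

universe u

variable {k R : Type u} [Field k] [CommRing R] [Algebra k R]
  (𝒜 : ℤ → Submodule k R) [GradedAlgebra 𝒜]

/-- Monomials in a family of elements. -/
def monom {p : ℕ} (a : Fin p → R) (α : Fin p → ℕ) : R := ∏ i, a i ^ α i

theorem monom_add {p : ℕ} (a : Fin p → R) (α β : Fin p → ℕ) :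
    monom a (α + β) = monom a α * monom a β := by
  simp [monom, pow_add, Finset.prod_mul_distrib]

/-- The weight of an exponent vector. -/
def weight {p : ℕ} (w : Fin p → ℕ) (α : Fin p → ℕ) : ℕ := ∑ i, w i * α i

theorem weight_add {p : ℕ} (w : Fin p → ℕ) (α β : Fin p → ℕ) :
    weight w (α + β) = weight w α + weight w β := by
  simp [weight, mul_add, Finset.sum_add_distrib]

theorem monom_mem {p : ℕ} {a : Fin p → R} {w : Fin p → ℕ} (ha : ∀ i, a i ∈ 𝒜 (w i))
    (α : Fin p → ℕ) : monom a α ∈ 𝒜 (weight w α) := by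
  have h : monom a α ∈ 𝒜 (∑ i, (α i) • (w i : ℤ)) :=
    SetLike.prod_pow_mem_graded 𝒜 (fun i => (w i : ℤ)) a α fun i _ => ha i
  convert h using 2
  simp [weight, mul_comm]

section Module

variable {M : Type u} [AddCommGroup M] [Module R M] [Module k M] [IsScalarTower k R M]
  (ℳ : ℤ → AddSubgroup M) [Decomposition ℳ]

/-- The component in degree `n`. -/
noncomputable def pr (n : ℤ) (x : M) : M := (decompose ℳ x n : M)

theorem pr_mem (n : ℤ) (x : M) : pr ℳ n x ∈ ℳ n := (decompose ℳ x n).2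

theorem pr_add (n : ℤ) (x y : M) : pr ℳ n (x + y) = pr ℳ n x + pr ℳ n y := by
  simp [pr, decompose_add]

theorem pr_of_mem {n : ℤ} {x : M} (hx : x ∈ ℳ n) : pr ℳ n x = x :=
  decompose_of_mem_same ℳ hx

theorem pr_of_mem_ne {n m : ℤ} {x : M} (hx : x ∈ ℳ m) (h : m ≠ n) : pr ℳ n x = 0 :=
  decompose_of_mem_ne ℳ hx h

theorem pr_zero (n : ℤ) : pr ℳ n 0 = 0 := pr_of_mem ℳ (ℳ n).zero_mem

variable [SetLike.GradedSMul 𝒜 ℳ]

include 𝒜 in
theorem smul_mem_piece {n : ℤ} (c : k) {x : M} (hx : x ∈ ℳ n) : c • x ∈ ℳ n := by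
  have h := SetLike.GradedSMul.smul_mem (A := 𝒜) (B := ℳ) (SetLike.algebraMap_mem_graded 𝒜 c) hx
  rwa [algebraMap_smul, zero_vadd] at h

include 𝒜 in
theorem pr_smul (n : ℤ) (c : k) (x : M) : pr ℳ n (c • x) = c • pr ℳ n x := by
  induction x using Decomposition.inductionOn ℳ with
  | zero => simp [pr_zero]
  | @homogeneous i y =>
    by_cases h : i = n
    · subst h
      rw [pr_of_mem ℳ y.2, pr_of_mem ℳ (smul_mem_piece 𝒜 ℳ c y.2)]
    · rw [pr_of_mem_ne ℳ y.2 h, pr_of_mem_ne ℳ (smul_mem_piece 𝒜 ℳ c y.2) h, smul_zero]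
  | add a b ha hb => simp [pr_add, ha, hb]

include 𝒜 in
/-- A piece lies in the span of the members of a homogeneous spanning family of that degree. -/
theorem mem_span_of_homogeneous {ι : Type*} (v : ι → M) (d : ι → ℤ) (hv : ∀ j, v j ∈ ℳ (d j))
    (hspan : Submodule.span k (Set.range v) = ⊤) {n : ℤ} {x : M} (hx : x ∈ ℳ n) :
    x ∈ Submodule.span k (v '' {j | d j = n}) := by
  suffices h : ∀ y, pr ℳ n y ∈ Submodule.span k (v '' {j | d j = n}) by
    simpa [pr_of_mem ℳ hx] using h x
  intro y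
  have hy : y ∈ Submodule.span k (Set.range v) := by rw [hspan]; trivial
  induction hy using Submodule.span_induction with
  | mem z hz =>
    obtain ⟨j, rfl⟩ := hz
    by_cases h : d j = n
    · rw [pr_of_mem ℳ (h ▸ hv j)]; exact Submodule.subset_span ⟨j, h, rfl⟩
    · rw [pr_of_mem_ne ℳ (hv j) h]; exact Submodule.zero_mem _
  | zero => rw [pr_zero]; exact Submodule.zero_mem _
  | add a b _ _ ha hb => rw [pr_add]; exact Submodule.add_mem _ ha hb
  | smul c a _ ha => rw [pr_smul 𝒜]; exact Submodule.smul_mem _ c ha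

include 𝒜 in
/-- Components of a product with a homogeneous vector. -/
theorem pr_smul_homogeneous (r : R) {j : ℤ} {x : M} (hx : x ∈ ℳ j) (n : ℤ) :
    pr ℳ n (r • x) = (decompose 𝒜 r (n - j) : R) • x := by
  induction r using Decomposition.inductionOn 𝒜 with
  | zero => simp [pr_zero, decompose_zero]
  | @homogeneous i a =>
    have hax : (a : R) • x ∈ ℳ (i + j) := by
      simpa using SetLike.GradedSMul.smul_mem (A := 𝒜) (B := ℳ) a.2 hx
    by_cases h : i + j = n
    · rw [pr_of_mem ℳ (h ▸ hax), show n - j = i by omega, decompose_of_mem_same 𝒜 a.2]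
    · rw [pr_of_mem_ne ℳ hax h, decompose_of_mem_ne 𝒜 a.2 (by omega), zero_smul]
  | add a b ha hb => simp [add_smul, pr_add, decompose_add, ha, hb]

omit [SetLike.GradedSMul 𝒜 ℳ] [Module k M] [IsScalarTower k R M] in
/-- Finitely generated graded modules have finitely many homogeneous generators. -/
theorem exists_homogeneous_generators [Module.Finite R M] :
    ∃ (l : ℕ) (m : Fin l → M) (d : Fin l → ℤ), (∀ i, m i ∈ ℳ (d i)) ∧
      Submodule.span R (Set.range m) = ⊤ := by
  classical
  obtain ⟨G, hG⟩ := (Module.Finite.fg_top : (⊤ : Submodule R M).FG)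
  let P : Finset (M × ℤ) := G.biUnion fun x => ((decompose ℳ x).support).image fun n => (pr ℳ n x, n)
  refine ⟨P.card, fun i => (P.equivFin.symm i).1.1, fun i => (P.equivFin.symm i).1.2, fun i => ?_, ?_⟩
  · obtain ⟨x, -, hx⟩ := Finset.mem_biUnion.mp (P.equivFin.symm i).2
    obtain ⟨n, -, hn⟩ := Finset.mem_image.mp hx
    simp only [← hn]
    exact pr_mem ℳ n x
  · rw [eq_top_iff, ← hG, Submodule.span_le]
    intro x hx
    rw [← sum_support_decompose ℳ x]
    refine Submodule.sum_mem _ fun n hn => Submodule.subset_span ?_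
    have hP : (pr ℳ n x, n) ∈ P :=
      Finset.mem_biUnion.mpr ⟨x, hx, Finset.mem_image.mpr ⟨n, hn, rfl⟩⟩
    exact ⟨P.equivFin ⟨_, hP⟩, by simp [pr]⟩

end Module

/-- The additive subgroups underlying the pieces. -/
abbrev pieces (n : ℤ) : AddSubgroup R := (𝒜 n).toAddSubgroup

noncomputable instance piecesDecomposition : Decomposition (pieces 𝒜) where
  decompose' := DirectSum.decompose 𝒜
  left_inv := Decomposition.left_inv (ℳ := 𝒜)
  right_inv := Decomposition.right_inv (ℳ := 𝒜)

instance piecesGradedSMul : SetLike.GradedSMul 𝒜 (pieces 𝒜) where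
  smul_mem _ _ _ _ ha hb := SetLike.mul_mem_graded (A := 𝒜) ha hb

variable (hpos : ∀ n : ℤ, n < 0 → 𝒜 n = ⊥) (h0 : 𝒜 0 = Submodule.span k {(1 : R)})
include hpos h0

/-- A finitely generated nonnegatively graded `k`-algebra with `R₀ = k` is spanned by monomials in
finitely many homogeneous elements of positive degree. -/
theorem exists_monom_generators [Algebra.FiniteType k R] :
    ∃ (p : ℕ) (a : Fin p → R) (w : Fin p → ℕ), (∀ i, 0 < w i) ∧ (∀ i, a i ∈ 𝒜 (w i)) ∧
      Submodule.span k (Set.range (monom a)) = ⊤ ∧ Algebra.adjoin k (Set.range a) = ⊤ := by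
  classical
  obtain ⟨G, hG⟩ := (Algebra.FiniteType.out : (⊤ : Subalgebra k R).FG)
  let P : Finset (R × ℕ) := G.biUnion fun x =>
    (((decompose 𝒜 x).support).filter fun n => 0 < n).image fun n => ((decompose 𝒜 x n : R), n.toNat)
  let a : Fin P.card → R := fun i => (P.equivFin.symm i).1.1
  let w : Fin P.card → ℕ := fun i => (P.equivFin.symm i).1.2
  have hP : ∀ i, 0 < w i ∧ a i ∈ 𝒜 (w i) := fun i => by
    obtain ⟨x, -, hx⟩ := Finset.mem_biUnion.mp (P.equivFin.symm i).2
    obtain ⟨n, hn, hn'⟩ := Finset.mem_image.mp hx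
    have hn0 : 0 < n := (Finset.mem_filter.mp hn).2
    simp only [a, w, ← hn']
    refine ⟨by omega, ?_⟩
    rw [Int.toNat_of_nonneg hn0.le]
    exact (decompose 𝒜 x n).2
  have hadj : Algebra.adjoin k (Set.range a) = ⊤ := by
    rw [eq_top_iff, ← hG]
    refine Algebra.adjoin_le fun x hx => ?_
    rw [← sum_support_decompose 𝒜 x]
    refine Subalgebra.sum_mem _ fun n hn => ?_
    rcases lt_trichotomy n 0 with hn0 | hn0 | hn0
    · have hm := (decompose 𝒜 x n).2
      simp only [hpos n hn0, Submodule.mem_bot] at hm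
      rw [hm]; exact Subalgebra.zero_mem _
    · subst hn0
      have hm := (decompose 𝒜 x 0).2
      simp only [h0, Submodule.mem_span_singleton] at hm
      obtain ⟨c, hc⟩ := hm
      rw [← hc, ← Algebra.algebraMap_eq_smul_one]
      exact Subalgebra.algebraMap_mem _ c
    · have hmem : ((decompose 𝒜 x n : R), n.toNat) ∈ P :=
        Finset.mem_biUnion.mpr ⟨x, hx, Finset.mem_image.mpr ⟨n, Finset.mem_filter.mpr ⟨hn, hn0⟩, rfl⟩⟩
      exact Algebra.subset_adjoin ⟨P.equivFin ⟨_, hmem⟩, by simp [a]⟩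
  refine ⟨P.card, a, w, fun i => (hP i).1, fun i => (hP i).2, ?_, hadj⟩
  rw [eq_top_iff]
  intro x _
  have hx : x ∈ Algebra.adjoin k (Set.range a) := by rw [hadj]; trivial
  rw [Algebra.adjoin_range_eq_range_aeval] at hx
  obtain ⟨F, rfl⟩ := hx
  show MvPolynomial.aeval a F ∈ _
  clear * -
  induction F using MvPolynomial.induction_on' with
  | monomial d c =>
    rw [MvPolynomial.aeval_monomial, ← Algebra.smul_def, Finsupp.prod_fintype _ _ (by simp)]
    exact Submodule.smul_mem _ c (Submodule.subset_span ⟨d, rfl⟩)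
  | add f g hf hg => rw [map_add]; exact Submodule.add_mem _ hf hg

end Groth.Agent.GrSegreLib
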