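import Groth.Agent.GrSegreLib.Dim
import Groth.Agent.GrSegreLib.Basic

/-!
# Homogeneous primes of a graded algebra with `R₀ = k`
-/

open DirectSum MvPolynomial

set_option linter.style.haveILetI false
set_option linter.unusedSectionVars false

namespace Groth.Agent.GrSegreLib

universe u

variable {k R : Type u} [Field k] [CommRing R] [Algebra k R]
  (𝒜 : ℤ → Submodule k R) [GradedAlgebra 𝒜]

/-- The ideal generated by the pieces of positive degree. -/
def irr : Ideal R := Ideal.span (⋃ n ∈ Set.Ioi (0 : ℤ), (𝒜 n : Set R))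

theorem irr_homogeneous : (irr 𝒜).IsHomogeneous 𝒜 :=
  Ideal.homogeneous_span 𝒜 _ fun x hx => by
    obtain ⟨n, -, hn⟩ := Set.mem_iUnion₂.mp hx
    exact ⟨n, hn⟩

theorem mem_irr_of_mem {n : ℤ} (hn : 0 < n) {x : R} (hx : x ∈ 𝒜 n) : x ∈ irr 𝒜 :=
  Ideal.subset_span (Set.mem_biUnion hn hx)

theorem minimalPrimes_homogeneous {J q : Ideal R} (hJ : J.IsHomogeneous 𝒜)
    (hq : q ∈ J.minimalPrimes) : q.IsHomogeneous 𝒜 := by
  rw [Ideal.IsHomogeneous.iff_eq]
  have hle : J ≤ (q.homogeneousCore 𝒜).toIdeal := by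
    rw [← hJ.toIdeal_homogeneousCore_eq_self]
    exact Ideal.homogeneousCore_mono 𝒜 hq.1.2
  exact le_antisymm (Ideal.toIdeal_homogeneousCore_le 𝒜 q)
    (hq.2 ⟨hq.1.1.homogeneousCore, hle⟩ (Ideal.toIdeal_homogeneousCore_le 𝒜 q))

variable (hpos : ∀ n : ℤ, n < 0 → 𝒜 n = ⊥) (h0 : 𝒜 0 = Submodule.span k {(1 : R)})

include hpos h0 in
theorem le_irr {J : Ideal R} (hJ : J.IsHomogeneous 𝒜) (hne : J ≠ ⊤) : J ≤ irr 𝒜 := by
  classical
  intro x hx
  rw [← sum_support_decompose 𝒜 x]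
  refine Ideal.sum_mem _ fun n _ => ?_
  rcases lt_trichotomy n 0 with hn | hn | hn
  · have hm := (decompose 𝒜 x n).2
    simp only [hpos n hn, Submodule.mem_bot] at hm
    rw [hm]; exact Ideal.zero_mem _
  · subst hn
    have hm := (decompose 𝒜 x 0).2
    simp only [h0, Submodule.mem_span_singleton] at hm
    obtain ⟨c, hc⟩ := hm
    by_cases hc0 : c = 0
    · rw [← hc, hc0, zero_smul]; exact Ideal.zero_mem _
    · refine absurd ((Ideal.eq_top_iff_one _).mpr ?_) hne
      have h1 := Submodule.smul_of_tower_mem J c⁻¹ (hJ 0 hx)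
      rwa [← hc, smul_smul, inv_mul_cancel₀ hc0, one_smul] at h1
  · exact mem_irr_of_mem 𝒜 hn (decompose 𝒜 x n).2

include hpos h0 in
theorem irr_isMaximal [Nontrivial R] : (irr 𝒜).IsMaximal := by
  classical
  have hproj : ∀ x ∈ irr 𝒜, (decompose 𝒜 x 0 : R) = 0 := by
    intro x hx
    suffices h : ∀ r : R, (decompose 𝒜 (r * x) 0 : R) = 0 by simpa using h 1
    induction hx using Submodule.span_induction with
    | mem y hy =>
      obtain ⟨n, hn, hyn⟩ := Set.mem_iUnion₂.mp hy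
      intro r
      have h := coe_decompose_mul_add_of_right_mem 𝒜 (a := r) (i := -n) hyn
      rw [neg_add_cancel] at h
      rw [h]
      have hm := (decompose 𝒜 r (-n)).2
      simp only [hpos (-n) (by simp at hn; omega), Submodule.mem_bot] at hm
      rw [hm, zero_mul]
    | zero => intro r; simp
    | add a b _ _ ha hb =>
      intro r
      rw [mul_add, decompose_add, DirectSum.add_apply, Submodule.coe_add, ha r, hb r, add_zero]
    | smul c a _ ha => intro r; rw [smul_eq_mul, ← mul_assoc]; exact ha _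
  have hne : irr 𝒜 ≠ ⊤ := fun h => by
    have := hproj 1 (h ▸ trivial)
    rw [decompose_of_mem_same 𝒜 (SetLike.one_mem_graded 𝒜)] at this
    exact one_ne_zero this
  refine Ideal.isMaximal_iff.mpr ⟨fun h => hne ((Ideal.eq_top_iff_one _).mpr h), ?_⟩
  intro J x hJ hx hxJ
  have h1 : x - (decompose 𝒜 x 0 : R) ∈ irr 𝒜 := by
    clear hx hxJ
    induction x using Decomposition.inductionOn 𝒜 with
    | zero => simp
    | @homogeneous n y =>
      rcases lt_trichotomy n 0 with hn | hn | hn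
      · have hm := y.2
        simp only [hpos n hn, Submodule.mem_bot] at hm
        simp [hm]
      · subst hn
        rw [decompose_of_mem_same 𝒜 y.2, sub_self]
        exact Ideal.zero_mem _
      · rw [decompose_of_mem_ne 𝒜 y.2 hn.ne', sub_zero]
        exact mem_irr_of_mem 𝒜 hn y.2
    | add a b ha hb =>
      rw [decompose_add, DirectSum.add_apply, Submodule.coe_add, add_sub_add_comm]
      exact Ideal.add_mem _ ha hb
  have hm := (decompose 𝒜 x 0).2
  simp only [h0, Submodule.mem_span_singleton] at hm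
  obtain ⟨c, hc⟩ := hm
  have hc0 : c ≠ 0 := fun h => hx (by rwa [← hc, h, zero_smul, sub_zero] at h1)
  have h2 : (decompose 𝒜 x 0 : R) ∈ J := by
    have := J.sub_mem hxJ (hJ h1)
    rwa [sub_sub_cancel] at this
  have h3 := Submodule.smul_of_tower_mem J c⁻¹ h2
  rwa [← hc, smul_smul, inv_mul_cancel₀ hc0, one_smul] at h3

include hpos in
/-- Homogeneous prime avoidance. -/
theorem exists_homogeneous_avoiding (s : Finset (Ideal R)) (hs : ∀ q ∈ s, q.IsPrime)
    (hhom : ∀ q ∈ s, q.IsHomogeneous 𝒜) (hirr : ∀ q ∈ s, ¬ irr 𝒜 ≤ q) :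
    ∃ (D : ℤ) (x : R), 0 < D ∧ x ∈ 𝒜 D ∧ ∀ q ∈ s, x ∉ q := by
  classical
  let G := s.filter fun q => ∀ q' ∈ s, q ≤ q' → q = q'
  have hdom : ∀ q ∈ s, ∃ q' ∈ G, q ≤ q' := by
    intro q hq
    obtain ⟨q', hqq', hq'⟩ := s.exists_le_maximal hq
    exact ⟨q', Finset.mem_filter.mpr ⟨hq'.1, fun p hp hle => le_antisymm hle (hq'.2 hp hle)⟩, hqq'⟩
  have hb : ∀ q : G, ∃ (e : ℕ) (b : R), 0 < e ∧ b ∈ 𝒜 (e : ℤ) ∧ b ∉ (q : Ideal R) ∧
      ∀ q' : G, q' ≠ q → b ∈ (q' : Ideal R) := by
    intro q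
    obtain ⟨hqs, hqmax⟩ := Finset.mem_filter.mp q.2
    haveI := hs q hqs
    obtain ⟨n, hn, b₀, hb₀, hb₀q⟩ : ∃ n : ℤ, 0 < n ∧ ∃ b ∈ 𝒜 n, b ∉ (q : Ideal R) := by
      by_contra h
      push Not at h
      refine hirr q hqs (Ideal.span_le.mpr fun x hx => ?_)
      obtain ⟨n, hn, hxn⟩ := Set.mem_iUnion₂.mp hx
      exact h n hn x hxn
    have hc : ∀ q' : G, ∃ (n : ℤ) (c : R), 0 ≤ n ∧ c ∈ 𝒜 n ∧ c ∉ (q : Ideal R) ∧
        (q' ≠ q → c ∈ (q' : Ideal R)) := by
      intro q'
      by_cases hqq : q' = q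
      · exact ⟨n, b₀, hn.le, hb₀, hb₀q, fun h => absurd hqq h⟩
      obtain ⟨hqs', hqmax'⟩ := Finset.mem_filter.mp q'.2
      have hnle : ¬ (q' : Ideal R) ≤ q := fun h => hqq (Subtype.ext (hqmax' q hqs h))
      obtain ⟨y, hy, hyq⟩ := SetLike.not_le_iff_exists.mp hnle
      obtain ⟨i, hi⟩ : ∃ i, (decompose 𝒜 y i : R) ∉ (q : Ideal R) := by
        by_contra h
        push Not at h
        exact hyq (by rw [← sum_support_decompose 𝒜 y]; exact Ideal.sum_mem _ fun i _ => h i)
      refine ⟨i, _, ?_, (decompose 𝒜 y i).2, hi, fun _ => hhom q' hqs' i hy⟩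
      by_contra hi0
      have hm := (decompose 𝒜 y i).2
      simp only [hpos i (not_le.mp hi0), Submodule.mem_bot] at hm
      exact hi (hm ▸ Ideal.zero_mem _)
    choose m c hm hcm hcq hcq' using hc
    have hsum : 0 ≤ ∑ q' : G, m q' := Finset.sum_nonneg fun q' _ => hm q'
    refine ⟨(n + ∑ q' : G, m q').toNat, b₀ * ∏ q' : G, c q', by omega, ?_, ?_, ?_⟩
    · rw [Int.toNat_of_nonneg (by omega)]
      exact SetLike.mul_mem_graded hb₀ (SetLike.prod_mem_graded 𝒜 m c fun q' _ => hcm q')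
    · intro h
      rcases (hs q hqs).mem_or_mem h with h | h
      · exact hb₀q h
      · obtain ⟨q', -, hq'⟩ := (hs q hqs).prod_mem_iff.mp h
        exact hcq q' hq'
    · intro q' hq'
      refine Ideal.mul_mem_left _ _ ?_
      rw [← Finset.mul_prod_erase _ _ (Finset.mem_univ q')]
      exact Ideal.mul_mem_right _ _ (hcq' q' hq')
  choose e b he hbe hbq hbq' using hb
  by_cases hG : Nonempty G
  swap
  · refine ⟨1, 0, one_pos, Submodule.zero_mem _, fun q hq => ?_⟩
    obtain ⟨q', hq', -⟩ := hdom q hq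
    exact absurd ⟨⟨q', hq'⟩⟩ hG
  let D := ∏ q : G, e q
  have hDpos : 0 < D := Finset.prod_pos fun q _ => he q
  have hdvd : ∀ q : G, e q ∣ D := fun q => Finset.dvd_prod_of_mem e (Finset.mem_univ q)
  refine ⟨(D : ℤ), ∑ q : G, b q ^ (D / e q), by exact_mod_cast hDpos,
    Submodule.sum_mem _ fun q _ => ?_, ?_⟩
  · have h := SetLike.pow_mem_graded (D / e q) (hbe q)
    rw [nsmul_eq_mul, ← Nat.cast_mul, Nat.div_mul_cancel (hdvd q)] at h
    exact h
  intro q hq hmem
  obtain ⟨q', hq', hqq'⟩ := hdom q hq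
  have hmem' := hqq' hmem
  rw [← Finset.add_sum_erase _ _ (Finset.mem_univ ⟨q', hq'⟩)] at hmem'
  have hrest : ∑ r ∈ (Finset.univ : Finset G).erase ⟨q', hq'⟩, b r ^ (D / e r) ∈ q' :=
    Ideal.sum_mem _ fun r hr => Ideal.pow_mem_of_mem _
      (hbq' r ⟨q', hq'⟩ (Finset.mem_erase.mp hr).1.symm) _
      (Nat.div_pos (Nat.le_of_dvd hDpos (hdvd r)) (he r))
  have h1 := (Ideal.add_mem_iff_left _ hrest).mp hmem'
  exact hbq ⟨q', hq'⟩ ((hs q' (Finset.mem_filter.mp hq').1).mem_of_pow_mem _ h1)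

include hpos h0 in
/-- If `j` homogeneous elements cut out the irrelevant ideal modulo `p`, then `dim R/p ≤ j`. -/
theorem ringKrullDim_quotient_le_of_cut [Algebra.FiniteType k R] (p : Ideal R) [p.IsPrime]
    (hp : p.IsHomogeneous 𝒜) {j : ℕ} (x : Fin j → R) (dx : Fin j → ℤ) (hdx : ∀ i, 0 < dx i)
    (hx : ∀ i, x i ∈ 𝒜 (dx i)) (hcut : irr 𝒜 ≤ (p ⊔ Ideal.span (Set.range x)).radical) :
    ringKrullDim (R ⧸ p) ≤ j := by
  classical
  obtain ⟨l, a, w, hw, ha, hspanR, -⟩ := exists_monom_generators 𝒜 hpos h0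
  have hN : ∀ i, ∃ e : ℕ, a i ^ e ∈ p ⊔ Ideal.span (Set.range x) := fun i =>
    Ideal.mem_radical_iff.mp (hcut (mem_irr_of_mem 𝒜 (by exact_mod_cast hw i) (ha i)))
  choose e he using hN
  let W : Submodule k R := (p.restrictScalars k) ⊔ Submodule.span k
    {y | ∃ (F : MvPolynomial (Fin j) k) (α : Fin l → ℕ), (∀ i, α i ≤ e i) ∧ y = aeval x F * monom a α}
  have hWmul : ∀ (i : Fin j), ∀ y ∈ W, x i * y ∈ W := by
    intro i y hy
    obtain ⟨y₁, hy₁, y₂, hy₂, rfl⟩ := Submodule.mem_sup.mp hy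
    rw [mul_add]
    refine Submodule.add_mem _ (Submodule.mem_sup_left (Ideal.mul_mem_left p _ hy₁))
      (Submodule.mem_sup_right ?_)
    clear hy
    induction hy₂ using Submodule.span_induction with
    | mem z hz =>
      obtain ⟨F, α, hα, rfl⟩ := hz
      refine Submodule.subset_span ⟨MvPolynomial.X i * F, α, hα, ?_⟩
      rw [map_mul, aeval_X, mul_assoc]
    | zero => simp
    | add a b _ _ ha hb => rw [mul_add]; exact Submodule.add_mem _ ha hb
    | smul c a _ ha => rw [mul_smul_comm]; exact Submodule.smul_mem _ c ha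
  have key : ∀ n : ℕ, ∀ y ∈ 𝒜 (n : ℤ), y ∈ W := by
    intro n
    induction n using Nat.strong_induction_on with
    | _ n ih =>
    intro y hy
    have hlow : ∀ i, ∀ c : R, (decompose 𝒜 c ((n : ℤ) - dx i) : R) ∈ W := by
      intro i c
      rcases lt_or_ge ((n : ℤ) - dx i) 0 with h | h
      · have hm := (decompose 𝒜 c ((n : ℤ) - dx i)).2
        simp only [hpos _ h, Submodule.mem_bot] at hm
        rw [hm]; exact Submodule.zero_mem _
      · have hlt : ((n : ℤ) - dx i).toNat < n := by have := hdx i; omega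
        exact ih _ hlt _ (by rw [Int.toNat_of_nonneg h]; exact (decompose 𝒜 c _).2)
    have hJ : ∀ z ∈ p ⊔ Ideal.span (Set.range x), (decompose 𝒜 z (n : ℤ) : R) ∈ W := by
      intro z hz
      obtain ⟨z₁, hz₁, z₂, hz₂, rfl⟩ := Submodule.mem_sup.mp hz
      rw [decompose_add]
      refine Submodule.add_mem _ (Submodule.mem_sup_left (hp _ hz₁)) ?_
      obtain ⟨c, rfl⟩ := Ideal.mem_span_range_iff_exists_fun.mp hz₂
      rw [decompose_sum, DFinsupp.finsetSum_apply, AddSubmonoidClass.coe_finsetSum]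
      refine Submodule.sum_mem _ fun i _ => ?_
      have h := coe_decompose_mul_add_of_right_mem 𝒜 (a := c i) (i := (n : ℤ) - dx i) (hx i)
      rw [sub_add_cancel] at h
      rw [h, mul_comm]
      exact hWmul i _ (hlow i _)
    have hy' := mem_span_of_homogeneous 𝒜 (pieces 𝒜) (monom a) (fun α => (weight w α : ℤ))
      (monom_mem 𝒜 ha) hspanR hy
    refine Submodule.span_le.mpr ?_ hy'
    rintro _ ⟨α, hα, rfl⟩
    by_cases hsmall : ∀ i, α i ≤ e i
    · exact Submodule.mem_sup_right (Submodule.subset_span ⟨1, α, hsmall, by simp⟩)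
    · push Not at hsmall
      obtain ⟨i, hi⟩ := hsmall
      have hmem : monom a α ∈ p ⊔ Ideal.span (Set.range x) := by
        rw [monom, ← Finset.mul_prod_erase _ _ (Finset.mem_univ i),
          ← Nat.add_sub_cancel' hi.le, pow_add, mul_assoc]
        exact Ideal.mul_mem_right _ _ (he i)
      have h2 := hJ _ hmem
      rwa [decompose_of_mem_same 𝒜 ((show (weight w α : ℤ) = n from hα) ▸ monom_mem 𝒜 ha α)] at h2
  have hW : ∀ y : R, y ∈ W := by
    intro y
    rw [← sum_support_decompose 𝒜 y]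
    refine Submodule.sum_mem _ fun n _ => ?_
    rcases lt_or_ge n 0 with h | h
    · have hm := (decompose 𝒜 y n).2
      simp only [hpos n h, Submodule.mem_bot] at hm
      rw [hm]; exact Submodule.zero_mem _
    · exact key n.toNat _ (by rw [Int.toNat_of_nonneg h]; exact (decompose 𝒜 y n).2)
  let f : MvPolynomial (Fin j) k →ₐ[k] R ⧸ p := (Ideal.Quotient.mkₐ k p).comp (aeval x)
  have hfin : f.toRingHom.Finite := by
    letI : Algebra (MvPolynomial (Fin j) k) (R ⧸ p) := f.toRingHom.toAlgebra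
    refine ⟨⟨(Fintype.piFinset fun i => Finset.range (e i + 1)).image
      fun α => Ideal.Quotient.mkₐ k p (monom a α), ?_⟩⟩
    rw [eq_top_iff]
    intro z _
    obtain ⟨y, rfl⟩ := Ideal.Quotient.mkₐ_surjective k p z
    obtain ⟨y₁, hy₁, y₂, hy₂, rfl⟩ := Submodule.mem_sup.mp (hW y)
    rw [map_add, show Ideal.Quotient.mkₐ k p y₁ = 0 from Ideal.Quotient.eq_zero_iff_mem.mpr hy₁, zero_add]
    clear * - hy₂
    induction hy₂ using Submodule.span_induction with
    | mem z hz =>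
      obtain ⟨F, α, hα, rfl⟩ := hz
      rw [map_mul]
      exact Submodule.smul_mem _ F (Submodule.subset_span (Finset.mem_image.mpr
        ⟨α, Fintype.mem_piFinset.mpr fun i => Finset.mem_range.mpr (Nat.lt_succ_of_le (hα i)), rfl⟩))
    | zero => simp
    | add a b _ _ ha hb => rw [map_add]; exact Submodule.add_mem _ ha hb
    | smul c a _ ha =>
      rw [map_smul, Algebra.smul_def]
      have : algebraMap k (R ⧸ p) c = f (MvPolynomial.C c) := by simp [f]
      rw [this]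
      exact Submodule.smul_mem _ (MvPolynomial.C c) ha
  have hint : f.toRingHom.rangeRestrict.IsIntegral ∧ (f.toRingHom.range.subtype).IsIntegral := by
    refine ⟨RingHom.IsIntegral.of_finite ?_, ?_⟩
    · exact RingHom.Finite.of_surjective _ f.toRingHom.rangeRestrict_surjective
    · intro z
      obtain ⟨P, hP, hPz⟩ := hfin.to_isIntegral z
      refine ⟨P.map f.toRingHom.rangeRestrict, hP.map _, ?_⟩
      rw [Polynomial.eval₂_map]
      exact hPz
  rw [← ringKrullDim_eq_of_integral_injective _ (Subtype.val_injective) hint.2]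
  refine le_trans (ringKrullDim_le_of_surjective f.toRingHom.rangeRestrict
    f.toRingHom.rangeRestrict_surjective) ?_
  rw [MvPolynomial.ringKrullDim_of_isNoetherianRing, ringKrullDim_eq_zero_of_field]
  simp

include hpos h0 in
/-- Below the irrelevant ideal there are chains as long as the dimension. -/
theorem exists_chain_to_irr [Algebra.FiniteType k R] [Nontrivial R] (p : Ideal R) [p.IsPrime]
    (hp : p.IsHomogeneous 𝒜) :
    ∃ c : LTSeries (PrimeSpectrum R), c.head.asIdeal = p ∧ c.last.asIdeal = irr 𝒜 ∧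
      ringKrullDim (R ⧸ p) ≤ c.length := by
  classical
  haveI : IsNoetherianRing R := Algebra.FiniteType.isNoetherianRing k R
  haveI := irr_isMaximal 𝒜 hpos h0
  obtain ⟨N, hN⟩ : ∃ N : ℕ, ringKrullDim R ≤ N := by
    obtain ⟨s, g, hg, hgi⟩ := exists_integral_inj_algHom_of_fg k R
    refine ⟨s, ?_⟩
    rw [← ringKrullDim_eq_of_integral_injective g.toRingHom hg hgi,
      MvPolynomial.ringKrullDim_of_isNoetherianRing, ringKrullDim_eq_zero_of_field]
    simp
  by_contra hcon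
  push Not at hcon
  suffices h : ∀ i : ℕ, ∃ (x : Fin i → R) (dx : Fin i → ℤ), (∀ l, 0 < dx l ∧ x l ∈ 𝒜 (dx l)) ∧
      ∀ q ∈ (p ⊔ Ideal.span (Set.range x)).minimalPrimes, ∃ c : LTSeries (PrimeSpectrum R),
        c.head.asIdeal = p ∧ c.last.asIdeal = q ∧ i ≤ c.length by
    obtain ⟨x, dx, hx, hc⟩ := h (N + 1)
    have hhom : (p ⊔ Ideal.span (Set.range x)).IsHomogeneous 𝒜 :=
      hp.sup (Ideal.homogeneous_span 𝒜 _ (by rintro _ ⟨l, rfl⟩; exact ⟨_, (hx l).2⟩))
    have hle : p ⊔ Ideal.span (Set.range x) ≤ irr 𝒜 :=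
      sup_le (le_irr 𝒜 hpos h0 hp (Ideal.IsPrime.ne_top'))
        (Ideal.span_le.mpr (by rintro _ ⟨l, rfl⟩; exact mem_irr_of_mem 𝒜 (hx l).1 (hx l).2))
    obtain ⟨q, hq, -⟩ := Ideal.exists_minimalPrimes_le hle
    obtain ⟨c, -, -, hclen⟩ := hc q hq
    have h2 : (c.length : WithBot ℕ∞) ≤ (N : WithBot ℕ∞) :=
      le_trans (Order.LTSeries.length_le_krullDim c) hN
    have : c.length ≤ N := by exact_mod_cast h2
    omega
  intro i
  induction i with
  | zero =>
    refine ⟨Fin.elim0, Fin.elim0, fun l => l.elim0, fun q hq => ?_⟩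
    rw [Set.range_eq_empty, Ideal.span_empty, sup_bot_eq, Ideal.minimalPrimes_eq_subsingleton_self] at hq
    refine ⟨RelSeries.singleton _ ⟨p, inferInstance⟩, rfl, ?_, Nat.zero_le _⟩
    rw [Set.mem_singleton_iff.mp hq]
    rfl
  | succ i ih =>
    obtain ⟨x, dx, hx, hc⟩ := ih
    have hhom : (p ⊔ Ideal.span (Set.range x)).IsHomogeneous 𝒜 :=
      hp.sup (Ideal.homogeneous_span 𝒜 _ (by rintro _ ⟨l, rfl⟩; exact ⟨_, (hx l).2⟩))
    have hle : p ⊔ Ideal.span (Set.range x) ≤ irr 𝒜 :=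
      sup_le (le_irr 𝒜 hpos h0 hp (Ideal.IsPrime.ne_top'))
        (Ideal.span_le.mpr (by rintro _ ⟨l, rfl⟩; exact mem_irr_of_mem 𝒜 (hx l).1 (hx l).2))
    have hfin := (p ⊔ Ideal.span (Set.range x)).finite_minimalPrimes_of_isNoetherianRing
    have hne : ∀ q ∈ (p ⊔ Ideal.span (Set.range x)).minimalPrimes, ¬ irr 𝒜 ≤ q := by
      intro q hq hirrq
      have hqeq : q = irr 𝒜 :=
        ((irr_isMaximal 𝒜 hpos h0).eq_of_le hq.1.1.ne_top hirrq).symm
      obtain ⟨c, hch, hcl, hclen⟩ := hc q hq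
      have hall : ∀ q' ∈ (p ⊔ Ideal.span (Set.range x)).minimalPrimes, q' = irr 𝒜 := by
        intro q' hq'
        have hle' := le_irr 𝒜 hpos h0 (minimalPrimes_homogeneous 𝒜 hhom hq') hq'.1.1.ne_top
        exact le_antisymm hle' (hqeq ▸ hq.2 ⟨hq'.1.1, hq'.1.2⟩ (hqeq ▸ hle'))
      have hrad : irr 𝒜 ≤ (p ⊔ Ideal.span (Set.range x)).radical := by
        rw [← Ideal.sInf_minimalPrimes]
        exact le_sInf fun q' hq' => (hall q' hq').ge
      have := ringKrullDim_quotient_le_of_cut 𝒜 hpos h0 p hp x dx (fun l => (hx l).1)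
        (fun l => (hx l).2) hrad
      have hlt := hcon c hch (hcl.trans hqeq)
      exact not_lt.mpr (this.trans (by exact_mod_cast hclen)) hlt
    obtain ⟨D, y, hD, hy, hyq⟩ := exists_homogeneous_avoiding 𝒜 hpos hfin.toFinset
      (fun q hq => ((hfin.mem_toFinset).mp hq).1.1)
      (fun q hq => minimalPrimes_homogeneous 𝒜 hhom (hfin.mem_toFinset.mp hq))
      (fun q hq => hne q (hfin.mem_toFinset.mp hq))
    refine ⟨Fin.snoc x y, Fin.snoc dx D, fun l => ?_, fun q hq => ?_⟩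
    · refine Fin.lastCases ?_ (fun l => ?_) l
      · simpa using ⟨hD, hy⟩
      · simpa using hx l
    · haveI := hq.1.1
      have hle2 : p ⊔ Ideal.span (Set.range x) ≤ q := by
        refine le_trans (sup_le_sup_left (Ideal.span_mono ?_) p) hq.1.2
        rintro _ ⟨l, rfl⟩
        exact ⟨l.castSucc, by simp⟩
      obtain ⟨q', hq', hq'le⟩ := Ideal.exists_minimalPrimes_le hle2
      obtain ⟨c, hch, hcl, hclen⟩ := hc q' hq'
      have hyq2 : y ∈ q := hq.1.2 (Submodule.mem_sup_right (Ideal.subset_span ⟨Fin.last i, by simp⟩))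
      have hlt : c.last < ⟨q, hq.1.1⟩ := by
        refine lt_of_le_of_ne (by rw [← PrimeSpectrum.asIdeal_le_asIdeal, hcl]; exact hq'le) fun h => ?_
        have : q' = q := by rw [← hcl, h]
        exact hyq q' (hfin.mem_toFinset.mpr hq') (this ▸ hyq2)
      refine ⟨c.snoc ⟨q, hq.1.1⟩ hlt, ?_, ?_, ?_⟩
      · rw [RelSeries.head_snoc]; exact hch
      · rw [RelSeries.last_snoc]
      · simp [RelSeries.snoc]; omega

end Groth.Agent.GrSegreLib
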