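import Groth.Agent.GrSegreLib.Basic

/-!
# Finiteness of Segre products
-/

open DirectSum TensorProduct

set_option linter.style.haveILetI false
set_option linter.unusedSectionVars false

namespace Groth.Agent.GrSegreLib

universe u

variable {k : Type u} [Field k] {R S : Type u} [CommRing R] [CommRing S] [Algebra k R] [Algebra k S]

theorem act_mul {M N : Type u} [AddCommGroup M] [Module R M] [Module k M] [IsScalarTower k R M]
    [AddCommGroup N] [Module S N] [Module k N] [IsScalarTower k S N]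
    (Z Z' : R ⊗[k] S) (v : M ⊗[k] N) :
    GrSeg.act k R S M N (Z * Z') v = GrSeg.act k R S M N Z (GrSeg.act k R S M N Z' v) := by
  induction Z using TensorProduct.induction_on with
  | zero => simp
  | tmul a b =>
    induction Z' using TensorProduct.induction_on with
    | zero => simp
    | tmul c d =>
      induction v using TensorProduct.induction_on with
      | zero => simp
      | tmul x y => simp [GrSeg.act_tmul, Algebra.TensorProduct.tmul_mul_tmul, mul_smul]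
      | add x y hx hy => simp only [map_add, hx, hy]
    | add x y hx hy => simp only [mul_add, map_add, LinearMap.add_apply, hx, hy]
  | add x y hx hy => simp only [add_mul, map_add, LinearMap.add_apply, hx, hy]

/-- A Segre piece lies in the span of products of spanning families. -/
theorem segrePiece_le {M N : Type u} [AddCommGroup M] [Module k M] [AddCommGroup N] [Module k N]
    {τ τ' : Type u} [SetLike τ M] [SetLike τ' N] (ℳ : ℤ → τ) (𝒩 : ℤ → τ') (n : ℤ)
    (U : Set M) (V : Set N) (hU : ∀ x ∈ ℳ n, x ∈ Submodule.span k U)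
    (hV : ∀ y ∈ 𝒩 n, y ∈ Submodule.span k V) :
    GrSeg.segrePiece k ℳ 𝒩 n ≤
      Submodule.span k (Set.image2 (fun u v => u ⊗ₜ[k] v) U V) := by
  refine Submodule.span_le.mpr ?_
  rintro _ ⟨a, ha, b, hb, rfl⟩
  have h := Submodule.apply_mem_map₂ (TensorProduct.mk k M N) (hU a ha) (hV b hb)
  rwa [Submodule.map₂_span_span] at h

variable (𝒜 : ℤ → Submodule k R) [GradedAlgebra 𝒜] (ℬ : ℤ → Submodule k S) [GradedAlgebra ℬ]
  {T : Type u} [CommRing T] [Algebra k T] (𝒯 : ℤ → Submodule k T) [GradedAlgebra 𝒯]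
  (ψ : T →ₐ[k] R ⊗[k] S)

/-- Equal-weight pairs of exponents. -/
def pairs {p q : ℕ} (w : Fin p → ℕ) (v : Fin q → ℕ) : AddSubmonoid ((Fin p → ℕ) × (Fin q → ℕ)) where
  carrier := {x | weight w x.1 = weight v x.2}
  zero_mem' := by simp [weight]
  add_mem' {x y} hx hy := by simp_all [weight_add]

theorem pairs_fg {p q : ℕ} (w : Fin p → ℕ) (v : Fin q → ℕ) : (pairs w v).FG := by
  refine AddSubmonoid.fg_of_subtractive fun x hx y hxy => ?_
  have h : weight w (x.1 + y.1) = weight v (x.2 + y.2) := hxy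
  have h' : weight w x.1 = weight v x.2 := hx
  show weight w y.1 = weight v y.2
  rw [weight_add, weight_add] at h
  omega

variable {p q : ℕ} {a : Fin p → R} {b : Fin q → S} {w : Fin p → ℕ} {v : Fin q → ℕ}

theorem exists_preimage_monom (hdegT : ∀ n, (𝒯 n).map ψ.toLinearMap = GrSeg.segrePiece k 𝒜 ℬ n)
    (ha : ∀ i, a i ∈ 𝒜 (w i)) (hb : ∀ i, b i ∈ ℬ (v i)) {α : Fin p → ℕ} {β : Fin q → ℕ}
    (h : weight w α = weight v β) :
    ∃ t ∈ 𝒯 (weight w α), ψ t = monom a α ⊗ₜ[k] monom b β := by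
  have hm : monom a α ⊗ₜ[k] monom b β ∈ GrSeg.segrePiece k 𝒜 ℬ (weight w α) :=
    Submodule.subset_span ⟨_, monom_mem 𝒜 ha α, _, by rw [h]; exact monom_mem ℬ hb β, rfl⟩
  rw [← hdegT] at hm
  obtain ⟨t, ht, hte⟩ := hm
  exact ⟨t, ht, hte⟩

/-- Segre products of graded rings defined over a field are finitely generated. -/
theorem finiteType_segre (hposR : ∀ n : ℤ, n < 0 → 𝒜 n = ⊥)
    (h0R : 𝒜 0 = Submodule.span k {(1 : R)}) [Algebra.FiniteType k R]
    (hposS : ∀ n : ℤ, n < 0 → ℬ n = ⊥) (h0S : ℬ 0 = Submodule.span k {(1 : S)})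
    [Algebra.FiniteType k S] (hψ : Function.Injective ψ)
    (hdegT : ∀ n, (𝒯 n).map ψ.toLinearMap = GrSeg.segrePiece k 𝒜 ℬ n) :
    Algebra.FiniteType k T := by
  classical
  obtain ⟨p, a, w, -, ha, hspanR, -⟩ := exists_monom_generators 𝒜 hposR h0R
  obtain ⟨q, b, v, -, hb, hspanS, -⟩ := exists_monom_generators ℬ hposS h0S
  obtain ⟨G, hG⟩ := pairs_fg w v
  have hmem : ∀ x : G, x.1 ∈ pairs w v := fun x => hG ▸ AddSubmonoid.subset_closure x.2
  choose t _ ht' using fun x : G => exists_preimage_monom 𝒜 ℬ 𝒯 ψ hdegT ha hb (hmem x)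
  refine ⟨⟨(Finset.univ : Finset G).image t, ?_⟩⟩
  let A : Subalgebra k T := Algebra.adjoin k (((Finset.univ : Finset G).image t : Finset T) : Set T)
  have key : ∀ x ∈ pairs w v, monom a x.1 ⊗ₜ[k] monom b x.2 ∈ A.map ψ := by
    intro x hx
    rw [← hG] at hx
    induction hx using AddSubmonoid.closure_induction with
    | mem y hy => exact ⟨t ⟨y, hy⟩, Algebra.subset_adjoin (by simp), ht' ⟨y, hy⟩⟩
    | zero =>
      refine ⟨1, A.one_mem, ?_⟩
      simp [monom, Algebra.TensorProduct.one_def]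
    | add y z _ _ hy hz =>
      simp only [Prod.fst_add, Prod.snd_add, monom_add, ← Algebra.TensorProduct.tmul_mul_tmul]
      exact Subalgebra.mul_mem _ hy hz
  show A = ⊤
  rw [eq_top_iff]
  intro x _
  rw [← sum_support_decompose 𝒯 x]
  refine Subalgebra.sum_mem _ fun n _ => ?_
  have hψx : ψ (decompose 𝒯 x n : T) ∈ GrSeg.segrePiece k 𝒜 ℬ n := by
    rw [← hdegT]; exact ⟨_, (decompose 𝒯 x n).2, rfl⟩
  have hle : GrSeg.segrePiece k 𝒜 ℬ n ≤ Subalgebra.toSubmodule (A.map ψ) := by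
    refine (segrePiece_le 𝒜 ℬ n (monom a '' {α | (weight w α : ℤ) = n})
      (monom b '' {β | (weight v β : ℤ) = n}) (fun x hx => ?_) (fun y hy => ?_)).trans ?_
    · exact mem_span_of_homogeneous 𝒜 (pieces 𝒜) (monom a) _ (monom_mem 𝒜 ha) hspanR hx
    · exact mem_span_of_homogeneous ℬ (pieces ℬ) (monom b) _ (monom_mem ℬ hb) hspanS hy
    · refine Submodule.span_le.mpr ?_
      rintro _ ⟨_, ⟨α, hα, rfl⟩, _, ⟨β, hβ, rfl⟩, rfl⟩
      refine key (α, β) ?_
      show weight w α = weight v β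
      have h1 : (weight w α : ℤ) = weight v β := hα.trans hβ.symm
      exact_mod_cast h1
  obtain ⟨y, hy, hye⟩ := hle hψx
  rw [← hψ hye]
  exact hy

variable {M N : Type u} [AddCommGroup M] [Module R M] [Module k M] [IsScalarTower k R M]
  [AddCommGroup N] [Module S N] [Module k N] [IsScalarTower k S N]
  (ℳ : ℤ → AddSubgroup M) [Decomposition ℳ] [SetLike.GradedSMul 𝒜 ℳ]
  (𝒩 : ℤ → AddSubgroup N) [Decomposition 𝒩] [SetLike.GradedSMul ℬ 𝒩]
  {P : Type u} [AddCommGroup P] [Module T P] [Module k P] [IsScalarTower k T P]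
  (𝒬 : ℤ → AddSubgroup P) [Decomposition 𝒬] (φ : P →ₗ[k] M ⊗[k] N)

/-- Segre products of finitely generated graded modules are finitely generated. -/
theorem moduleFinite_segre (hposR : ∀ n : ℤ, n < 0 → 𝒜 n = ⊥)
    (h0R : 𝒜 0 = Submodule.span k {(1 : R)}) [Algebra.FiniteType k R]
    (hposS : ∀ n : ℤ, n < 0 → ℬ n = ⊥) (h0S : ℬ 0 = Submodule.span k {(1 : S)})
    [Algebra.FiniteType k S] [Module.Finite R M] [Module.Finite S N]
    (hdegT : ∀ n, (𝒯 n).map ψ.toLinearMap = GrSeg.segrePiece k 𝒜 ℬ n)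
    (hP : GrSeg.IsSegreMod ψ ℳ 𝒩 𝒬 φ) :
    Module.Finite T P := by
  classical
  obtain ⟨p, a, w, -, ha, hspanR, -⟩ := exists_monom_generators 𝒜 hposR h0R
  obtain ⟨q, b, v, -, hb, hspanS, -⟩ := exists_monom_generators ℬ hposS h0S
  obtain ⟨l, m, dm, hm, hmspan⟩ := exists_homogeneous_generators (R := R) ℳ
  obtain ⟨j, n', dn, hn, hnspan⟩ := exists_homogeneous_generators (R := S) 𝒩
  let X : Fin l × Fin j → Set ((Fin p → ℕ) × (Fin q → ℕ)) := fun i =>
    {x | (weight w x.1 : ℤ) + dm i.1 = weight v x.2 + dn i.2}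
  have hXfin : ∀ i, {x | Minimal (· ∈ X i) x}.Finite := fun i =>
    (setOfPred_minimal_antichain _).finite_of_partiallyWellOrderedOn
      ((Set.isPWO_of_wellQuasiOrderedLE (X i)).mono (setOfPred_minimal_subset _))
  have hmemM : ∀ i (α : Fin p → ℕ), monom a α • m i ∈ ℳ ((weight w α : ℤ) + dm i) := fun i α => by
    simpa using SetLike.GradedSMul.smul_mem (A := 𝒜) (B := ℳ) (monom_mem 𝒜 ha α) (hm i)
  have hmemN : ∀ i (β : Fin q → ℕ), monom b β • n' i ∈ 𝒩 ((weight v β : ℤ) + dn i) := fun i β => by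
    simpa using SetLike.GradedSMul.smul_mem (A := ℬ) (B := 𝒩) (monom_mem ℬ hb β) (hn i)
  have hpre : ∀ i x, x ∈ X i →
      ∃ z : P, φ z = (monom a x.1 • m i.1) ⊗ₜ[k] (monom b x.2 • n' i.2) := by
    intro i x hx
    have hx' : (monom a x.1 • m i.1) ⊗ₜ[k] (monom b x.2 • n' i.2) ∈
        (GrSeg.segrePiece k ℳ 𝒩 ((weight w x.1 : ℤ) + dm i.1) : Set (M ⊗[k] N)) :=
      Submodule.subset_span ⟨_, hmemM _ _, _, by
        rw [show (weight w x.1 : ℤ) + dm i.1 = _ from hx]; exact hmemN _ _, rfl⟩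
    rw [← hP.image_piece] at hx'
    obtain ⟨z, -, hz⟩ := hx'
    exact ⟨z, hz⟩
  choose z hz using hpre
  let J := Σ i : Fin l × Fin j, (hXfin i).toFinset
  let g : J → P := fun s => z s.1 s.2.1 ((hXfin s.1).mem_toFinset.mp s.2.2).1
  refine ⟨⟨(Finset.univ : Finset J).image g, ?_⟩⟩
  let B : Submodule T P := Submodule.span T (((Finset.univ : Finset J).image g : Finset P) : Set P)
  show B = ⊤
  rw [eq_top_iff]
  intro x _
  rw [← sum_support_decompose 𝒬 x]
  refine Submodule.sum_mem _ fun n _ => ?_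
  have key : ∀ i x, x ∈ X i →
      (monom a x.1 • m i.1) ⊗ₜ[k] (monom b x.2 • n' i.2) ∈ (B.restrictScalars k).map φ := by
    intro i x hx
    obtain ⟨x₀, hx₀le, hx₀⟩ :=
      (Set.isPWO_of_wellQuasiOrderedLE (X i)).exists_le_minimal hx
    obtain ⟨δ, hδ⟩ : ∃ δ, x = δ + x₀ := ⟨x - x₀, (tsub_add_cancel_of_le hx₀le).symm⟩
    have hδw : weight w δ.1 = weight v δ.2 := by
      have h1 : (weight w x.1 : ℤ) + dm i.1 = weight v x.2 + dn i.2 := hx
      have h2 : (weight w x₀.1 : ℤ) + dm i.1 = weight v x₀.2 + dn i.2 := hx₀.1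
      rw [hδ, Prod.fst_add, Prod.snd_add, weight_add, weight_add] at h1
      push_cast at h1
      omega
    obtain ⟨t, -, ht⟩ := exists_preimage_monom 𝒜 ℬ 𝒯 ψ hdegT ha hb hδw
    refine ⟨t • z i x₀ hx₀.1, B.smul_mem t (Submodule.subset_span ?_), ?_⟩
    · simp only [Finset.coe_image, Finset.coe_univ, Set.image_univ, Set.mem_range]
      exact ⟨⟨i, x₀, (hXfin i).mem_toFinset.mpr hx₀⟩, rfl⟩
    · rw [hP.map_smul, hz, ht, GrSeg.act_tmul, hδ, Prod.fst_add, Prod.snd_add, monom_add,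
        monom_add, mul_smul, mul_smul]
  have hφx : φ (decompose 𝒬 x n : P) ∈ (GrSeg.segrePiece k ℳ 𝒩 n : Set (M ⊗[k] N)) := by
    rw [← hP.image_piece]; exact ⟨_, (decompose 𝒬 x n).2, rfl⟩
  have hspanM : Submodule.span k (Set.range fun s : (Fin p → ℕ) × Fin l => monom a s.1 • m s.2) = ⊤ := by
    have h := Submodule.span_smul_of_span_eq_top (R := k) (S := R) hspanR (Set.range m)
    rw [hmspan, Submodule.restrictScalars_top] at h
    refine le_antisymm le_top (h ▸ Submodule.span_mono ?_)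
    rintro _ ⟨_, ⟨α, rfl⟩, _, ⟨i, rfl⟩, rfl⟩
    exact ⟨(α, i), rfl⟩
  have hspanN : Submodule.span k (Set.range fun s : (Fin q → ℕ) × Fin j => monom b s.1 • n' s.2) = ⊤ := by
    have h := Submodule.span_smul_of_span_eq_top (R := k) (S := S) hspanS (Set.range n')
    rw [hnspan, Submodule.restrictScalars_top] at h
    refine le_antisymm le_top (h ▸ Submodule.span_mono ?_)
    rintro _ ⟨_, ⟨α, rfl⟩, _, ⟨i, rfl⟩, rfl⟩
    exact ⟨(α, i), rfl⟩
  let fM : (Fin p → ℕ) × Fin l → M := fun s => monom a s.1 • m s.2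
  let fN : (Fin q → ℕ) × Fin j → N := fun s => monom b s.1 • n' s.2
  let eM : (Fin p → ℕ) × Fin l → ℤ := fun s => (weight w s.1 : ℤ) + dm s.2
  let eN : (Fin q → ℕ) × Fin j → ℤ := fun s => (weight v s.1 : ℤ) + dn s.2
  have hUM : ∀ x ∈ ℳ n, x ∈ Submodule.span k (fM '' {s | eM s = n}) := fun x hx =>
    mem_span_of_homogeneous (M := M) 𝒜 ℳ fM eM (fun s => hmemM s.2 s.1) hspanM hx
  have hUN : ∀ y ∈ 𝒩 n, y ∈ Submodule.span k (fN '' {s | eN s = n}) := fun y hy =>
    mem_span_of_homogeneous (M := N) ℬ 𝒩 fN eN (fun s => hmemN s.2 s.1) hspanN hy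
  have hle : GrSeg.segrePiece k ℳ 𝒩 n ≤ (B.restrictScalars k).map φ := by
    refine (segrePiece_le (k := k) ℳ 𝒩 n (fM '' {s | eM s = n}) (fN '' {s | eN s = n}) hUM hUN).trans ?_
    refine Submodule.span_le.mpr ?_
    rintro _ ⟨_, ⟨⟨α, i⟩, hα, rfl⟩, _, ⟨⟨β, i'⟩, hβ, rfl⟩, rfl⟩
    exact key (i, i') (α, β) (Eq.trans (b := n) hα hβ.symm)
  obtain ⟨y, hy, hye⟩ := hle hφx
  rw [← hP.injective hye]
  exact hy

end Groth.Agent.GrSegreLib
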