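import Groth.Agent.GrSegreLib.Upper

/-!
# The lower bound for dimensions of Segre products
-/

open DirectSum TensorProduct MvPolynomial

set_option linter.style.haveILetI false
set_option linter.unusedSectionVars false

namespace Groth.Agent.GrSegreLib

universe u

variable {k : Type u} [Field k] {R S : Type u} [CommRing R] [CommRing S] [Algebra k R] [Algebra k S]
  (𝒜 : ℤ → Submodule k R) [GradedAlgebra 𝒜] (ℬ : ℤ → Submodule k S) [GradedAlgebra ℬ]

/-- As many homogeneous elements of one degree as the dimension are independent modulo an ideal. -/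
theorem exists_homogeneous_algIndep (hpos : ∀ n : ℤ, n < 0 → 𝒜 n = ⊥)
    (h0 : 𝒜 0 = Submodule.span k {(1 : R)}) [Algebra.FiniteType k R] (I : Ideal R)
    {r : ℕ} (hr : ringKrullDim (R ⧸ I) = r) :
    ∃ D : ℕ, 0 < D ∧ ∀ c : ℕ, 0 < c → ∃ u : Fin r → R, (∀ i, u i ∈ 𝒜 ((c * D : ℕ) : ℤ)) ∧
      AlgebraicIndependent k (fun i => Ideal.Quotient.mkₐ k I (u i)) := by
  obtain ⟨p, a, w, hw, ha, -, hadj⟩ := exists_monom_generators 𝒜 hpos h0
  haveI : Algebra.FiniteType k (R ⧸ I) :=
    Algebra.FiniteType.of_surjective (Ideal.Quotient.mkₐ k I) (Ideal.Quotient.mkₐ_surjective k I)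
  have hgen : Algebra.adjoin k (Ideal.Quotient.mkₐ k I '' Set.range a) = ⊤ := by
    rw [Algebra.adjoin_image, hadj, Algebra.map_top, AlgHom.range_eq_top]
    exact Ideal.Quotient.mkₐ_surjective k I
  obtain ⟨z, hz⟩ := exists_algIndep (k := k) hr
  obtain ⟨g, hg, hgi⟩ := exists_algIndep_generators hgen hz
  choose b hb hb' using hg
  choose j hj using hb
  refine ⟨∏ i, w i, Finset.prod_pos fun i _ => hw i, fun c hc => ?_⟩
  have hdvd : ∀ i, w i ∣ c * ∏ l, w l := fun i =>
    (Finset.dvd_prod_of_mem w (Finset.mem_univ i)).mul_left c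
  refine ⟨fun i => a (j i) ^ ((c * ∏ l, w l) / w (j i)), fun i => ?_, ?_⟩
  · have h := SetLike.pow_mem_graded ((c * ∏ l, w l) / w (j i)) (ha (j i))
    convert h using 2
    rw [nsmul_eq_mul, ← Nat.cast_mul, Nat.div_mul_cancel (hdvd _)]
  · have h := algIndep_pow hgi (e := fun i => (c * ∏ l, w l) / w (j i)) fun i =>
      Nat.div_pos (Nat.le_of_dvd (Nat.mul_pos hc (Finset.prod_pos fun i _ => hw i)) (hdvd _)) (hw _)
    convert h using 1
    funext i
    rw [map_pow, ← hb' i, hj i]

section Exponents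

variable (r s : ℕ)

/-- The exponents of the monomials `Xᵢ Y₀`, `X₀ Yⱼ` (`j ≠ 0`). -/
noncomputable def segreExp :
    ((Fin (r + 1) ⊕ Fin s) →₀ ℕ) →+ ((Fin (r + 1) ⊕ Fin (s + 1)) →₀ ℕ) :=
  (Finsupp.linearCombination ℕ (Sum.elim
    (fun i => Finsupp.single (Sum.inl i) 1 + Finsupp.single (Sum.inr 0) 1)
    (fun j => Finsupp.single (Sum.inl 0) 1 + Finsupp.single (Sum.inr j.succ) 1))).toAddMonoidHom

theorem segreExp_injective : Function.Injective (segreExp r s) := by
  classical
  have hL : ∀ d (l : Fin (r + 1) ⊕ Fin (s + 1)), segreExp r s d l =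
      ∑ m : Fin (r + 1) ⊕ Fin s, d m * (Sum.elim
        (fun i => Finsupp.single (Sum.inl i) 1 + Finsupp.single (Sum.inr 0) 1)
        (fun j => Finsupp.single (Sum.inl 0) 1 + Finsupp.single (Sum.inr j.succ) 1) m :
          (Fin (r + 1) ⊕ Fin (s + 1)) →₀ ℕ) l := by
    intro d l
    simp only [segreExp, LinearMap.toAddMonoidHom_coe]
    rw [Finsupp.linearCombination_apply, Finsupp.sum_fintype _ _ (by intro _; simp),
      Finsupp.finsetSum_apply]
    rfl
  intro x y hxy
  have hj : ∀ j : Fin s, x (Sum.inr j) = y (Sum.inr j) := by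
    intro j
    have h := DFunLike.congr_fun hxy (Sum.inr j.succ)
    rw [hL, hL] at h
    simpa [Fintype.sum_sum_type, Finsupp.single_apply, Fin.succ_ne_zero, (Fin.succ_ne_zero _).symm]
      using h
  have hi : ∀ i : Fin (r + 1), i ≠ 0 → x (Sum.inl i) = y (Sum.inl i) := by
    intro i hi
    have h := DFunLike.congr_fun hxy (Sum.inl i)
    rw [hL, hL] at h
    simpa [Fintype.sum_sum_type, Finsupp.single_apply, hi, hi.symm] using h
  refine Finsupp.ext fun m => ?_
  rcases m with i | j
  · by_cases h0 : i = 0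
    · subst h0
      have h := DFunLike.congr_fun hxy (Sum.inr 0)
      rw [hL, hL] at h
      simp [Fintype.sum_sum_type, Finsupp.single_apply, Fin.sum_univ_succ,
        Fin.succ_ne_zero] at h
      have hsum : ∑ i : Fin r, x (Sum.inl i.succ) = ∑ i : Fin r, y (Sum.inl i.succ) :=
        Finset.sum_congr rfl fun i _ => hi _ (Fin.succ_ne_zero i)
      omega
    · exact hi i h0
  · exact hj j

/-- The elements `Xᵢ ⊗ Y₀` and `X₀ ⊗ Yⱼ` (`j ≠ 0`). -/
noncomputable def segreGen (k : Type u) [Field k] : Fin (r + 1) ⊕ Fin s →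
    MvPolynomial (Fin (r + 1)) k ⊗[k] MvPolynomial (Fin (s + 1)) k :=
  Sum.elim (fun i => X i ⊗ₜ[k] X 0) (fun j => X 0 ⊗ₜ[k] X j.succ)

theorem segreGen_algIndep (k : Type u) [Field k] : AlgebraicIndependent k (segreGen r s k) := by
  refine AlgebraicIndependent.of_comp
    ((MvPolynomial.tensorEquivSum k (Fin (r + 1)) (Fin (s + 1)) k).toAlgHom) ?_
  have h := algIndep_monomial (k := k) (segreExp r s) (segreExp_injective r s)
  convert h using 1
  funext m
  have hm : segreExp r s (Finsupp.single m 1) = Sum.elim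
      (fun i => Finsupp.single (Sum.inl i) 1 + Finsupp.single (Sum.inr 0) 1)
      (fun j => Finsupp.single (Sum.inl 0) 1 + Finsupp.single (Sum.inr j.succ) 1) m := by
    show Finsupp.linearCombination ℕ _ (Finsupp.single m 1) = _
    rw [Finsupp.linearCombination_single, one_smul]
  rcases m with i | j <;>
  · simp only [Function.comp_apply, segreGen, Sum.elim_inl, Sum.elim_inr, hm]
    rw [AlgEquiv.coe_toAlgHom, MvPolynomial.tensorEquivSum_X_tmul_X]
    simp [MvPolynomial.X, MvPolynomial.monomial_mul]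

end Exponents

variable {T : Type u} [CommRing T] [Algebra k T] (𝒯 : ℤ → Submodule k T) [GradedAlgebra 𝒯]
  (ψ : T →ₐ[k] R ⊗[k] S)
  {M N : Type u} [AddCommGroup M] [Module R M] [Module k M] [IsScalarTower k R M]
  [AddCommGroup N] [Module S N] [Module k N] [IsScalarTower k S N]

/-- From elements of one degree, independent on vectors `x`, `y`, we get `r + s - 1` elements of the
Segre product independent on `x ⊗ y`. -/
theorem lower_bound (hdegT : ∀ n, (𝒯 n).map ψ.toLinearMap = GrSeg.segrePiece k 𝒜 ℬ n)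
    {r s : ℕ} {D : ℤ} (u : Fin (r + 1) → R) (hu : ∀ i, u i ∈ 𝒜 D)
    (v : Fin (s + 1) → S) (hv : ∀ i, v i ∈ ℬ D) (x : M)
    (hx : ∀ F : MvPolynomial (Fin (r + 1)) k, aeval u F • x = 0 → F = 0) (y : N)
    (hy : ∀ F : MvPolynomial (Fin (s + 1)) k, aeval v F • y = 0 → F = 0) :
    ∃ w : Fin (r + 1 + s) → T, ∀ F : MvPolynomial (Fin (r + 1 + s)) k,
      GrSeg.act k R S M N (ψ (aeval w F)) (x ⊗ₜ[k] y) = 0 → F = 0 := by
  let g := Algebra.TensorProduct.map (aeval u : MvPolynomial (Fin (r + 1)) k →ₐ[k] R)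
    (aeval v : MvPolynomial (Fin (s + 1)) k →ₐ[k] S)
  let G : Fin (r + 1 + s) → MvPolynomial (Fin (r + 1)) k ⊗[k] MvPolynomial (Fin (s + 1)) k :=
    segreGen r s k ∘ finSumFinEquiv.symm
  have hpre : ∀ m, ∃ t, ψ t = g (G m) := by
    intro m
    have hm : g (G m) ∈ GrSeg.segrePiece k 𝒜 ℬ D := by
      refine Submodule.subset_span ?_
      rcases hm : finSumFinEquiv.symm m with i | j
      · exact ⟨u i, hu i, v 0, hv 0, by simp [g, G, segreGen, hm]⟩
      · exact ⟨u 0, hu 0, v j.succ, hv _, by simp [g, G, segreGen, hm]⟩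
    rw [← hdegT] at hm
    obtain ⟨t, -, ht⟩ := hm
    exact ⟨t, ht⟩
  choose w hw using hpre
  refine ⟨w, fun F hF => ?_⟩
  have hG : AlgebraicIndependent k G :=
    (segreGen_algIndep r s k).comp _ finSumFinEquiv.symm.injective
  have h1 : ψ (aeval w F) = g (aeval G F) := by
    rw [← AlgHom.comp_apply, ← AlgHom.comp_apply, comp_aeval, comp_aeval]
    exact DFunLike.congr_fun (congrArg aeval (funext hw)) F
  let fx : MvPolynomial (Fin (r + 1)) k →ₗ[k] M :=
    ((LinearMap.toSpanSingleton R M x).restrictScalars k).comp (aeval u).toLinearMap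
  let fy : MvPolynomial (Fin (s + 1)) k →ₗ[k] N :=
    ((LinearMap.toSpanSingleton S N y).restrictScalars k).comp (aeval v).toLinearMap
  have h2 : ∀ Z, GrSeg.act k R S M N (g Z) (x ⊗ₜ[k] y) = TensorProduct.map fx fy Z := by
    intro Z
    induction Z using TensorProduct.induction_on with
    | zero => simp
    | tmul a b => simp [g, GrSeg.act_tmul, fx, fy]
    | add a b ha hb => simp only [map_add, LinearMap.add_apply, ha, hb]
  have hinj : Function.Injective (TensorProduct.map fx fy) := by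
    refine TensorProduct.map_injective_of_flat_flat fx fy ?_ ?_
    · exact (injective_iff_map_eq_zero fx).mpr fun F hF => hx F hF
    · exact (injective_iff_map_eq_zero fy).mpr fun F hF => hy F hF
  rw [h1, h2] at hF
  exact (injective_iff_map_eq_zero _).mp (algebraicIndependent_iff_injective_aeval.mp hG) F
    (hinj (by rw [hF, map_zero]))

end Groth.Agent.GrSegreLib
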